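import Mathlib
import Cfsg.Agent.Lib.CoprimeGen
import Cfsg.Agent.Lib.Coprime

/-!
An elementary abelian group acting coprimely inside one finite group: generation by fixed points of
subgroups of index at most `p`, corank bookkeeping, and fixed points in joins of normal subgroups.
-/

set_option autoImplicit false

namespace CfsgLib.CentClass

open Subgroup
open scoped commutatorElement

universe u
variable {Γ : Type u} [Group Γ] [Finite Γ]

/-- The coprime action of `A` on the normal subgroup `X`. -/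
structure Act (p : ℕ) (A X : Subgroup Γ) : Prop where
  prime : p.Prime
  comm : ∀ a ∈ A, ∀ b ∈ A, a * b = b * a
  exp : ∀ a ∈ A, a ^ p = 1
  normal : X.Normal
  cop : ¬ p ∣ Nat.card X

/-- `E` is a subgroup of `A` of index at most `p ^ f`. -/
def Cor (p : ℕ) (A : Subgroup Γ) (f : ℕ) (E : Subgroup Γ) : Prop :=
  E ≤ A ∧ E.relIndex A ≤ p ^ f

/-- The elements centralising `E`. -/
abbrev C (E : Subgroup Γ) : Subgroup Γ := centralizer (E : Set Γ)

variable {p : ℕ} {A X : Subgroup Γ}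

theorem C_anti {E E' : Subgroup Γ} (h : E ≤ E') : C E' ≤ C E := Subgroup.centralizer_le h

theorem mem_C {E : Subgroup Γ} {x : Γ} : x ∈ C E ↔ ∀ a ∈ E, a * x = x * a := Subgroup.mem_centralizer_iff

omit [Finite Γ] in
theorem conj_eq_of_mem_C {E : Subgroup Γ} {x a : Γ} (hx : x ∈ C E) (ha : a ∈ E) : a * x * a⁻¹ = x := by
  rw [Subgroup.mem_centralizer_iff.mp hx a ha, mul_inv_cancel_right]

theorem mem_C_of_conj {E : Subgroup Γ} {x : Γ} (h : ∀ a ∈ E, a * x * a⁻¹ = x) : x ∈ C E :=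
  mem_C.mpr fun a ha => mul_inv_eq_iff_eq_mul.mp (h a ha)

theorem C_sup {E F : Subgroup Γ} {x : Γ} (hE : x ∈ C E) (hF : x ∈ C F) : x ∈ C (E ⊔ F) := by
  have h : E ⊔ F ≤ centralizer {x} := sup_le
    (fun a ha => mem_centralizer_singleton_iff.mpr (mem_C.mp hE a ha))
    (fun a ha => mem_centralizer_singleton_iff.mpr (mem_C.mp hF a ha))
  exact mem_C.mpr fun a ha => mem_centralizer_singleton_iff.mp (h ha)

theorem relIndex_ne_zero (H K : Subgroup Γ) : H.relIndex K ≠ 0 := Subgroup.index_ne_zero_of_finite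

theorem relIndex_A_self : A.relIndex A = 1 := Subgroup.relIndex_self A

theorem Cor.self (f : ℕ) (hp : p.Prime) : Cor p A f A :=
  ⟨le_rfl, by rw [relIndex_A_self]; exact Nat.one_le_pow _ _ hp.pos⟩

theorem Cor.inf {E F : Subgroup Γ} {f g : ℕ} (hE : Cor p A f E) (hF : Cor p A g F) :
    Cor p A (f + g) (E ⊓ F) :=
  ⟨inf_le_left.trans hE.1, by rw [pow_add]; exact Subgroup.relIndex_inf_le.trans (Nat.mul_le_mul hE.2 hF.2)⟩

theorem Cor.mono {E : Subgroup Γ} {f g : ℕ} (hp : p.Prime) (hE : Cor p A f E) (h : f ≤ g) : Cor p A g E :=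
  ⟨hE.1, hE.2.trans (Nat.pow_le_pow_right hp.pos h)⟩

theorem Cor.ne_bot {E : Subgroup Γ} {f k : ℕ} (hp : p.Prime) (hE : Cor p A f E) (hA : Nat.card A = p ^ k)
    (hfk : f < k) : E ≠ ⊥ := by
  rintro rfl
  have h := hE.2
  rw [Subgroup.relIndex_bot_left, hA, Nat.pow_le_pow_iff_right hp.one_lt] at h
  omega

theorem relIndex_dvd_pow (h : Act p A X) (E : Subgroup Γ) : ∃ j, E.relIndex A = p ^ j := by
  have hA : IsPGroup p A := fun a => ⟨1, Subtype.ext (by rw [pow_one]; exact h.exp a a.2)⟩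
  haveI := Fact.mk h.prime
  exact hA.index (E.subgroupOf A)

theorem eq_top_or_index (h : Act p A X) {B : Subgroup Γ} (hB : Cor p A 1 B) :
    B = A ∨ B.relIndex A = p := by
  obtain ⟨j, hj⟩ := relIndex_dvd_pow h B
  have h1 := hj ▸ hB.2
  rw [Nat.pow_le_pow_iff_right h.prime.one_lt] at h1
  rcases j with _ | _ | j
  · exact Or.inl (le_antisymm hB.1 (Subgroup.relIndex_eq_one.mp (by rw [hj, pow_zero])))
  · exact Or.inr (by rw [hj, pow_one])
  · omega

theorem sup_eq_of_not_le (h : Act p A X) {B D : Subgroup Γ} (hB : Cor p A 1 B) (hD : D ≤ A) (hne : ¬ D ≤ B) :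
    B ⊔ D = A := by
  rcases eq_top_or_index h hB with rfl | hi
  · exact absurd hD hne
  refine le_antisymm (sup_le hB.1 hD) (Subgroup.relIndex_eq_one.mp ?_)
  have h1 := Subgroup.relIndex_mul_relIndex B (B ⊔ D) A le_sup_left (sup_le hB.1 hD)
  rw [hi] at h1
  rcases (Nat.dvd_prime h.prime).mp (Dvd.intro_left _ h1) with h2 | h2
  · exact h2
  · exfalso
    have h3 : B.relIndex (B ⊔ D) = 1 := by
      rw [h2] at h1
      exact Nat.eq_of_mul_eq_mul_right h.prime.pos (h1.trans (one_mul p).symm)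
    exact hne (le_sup_right.trans (Subgroup.relIndex_eq_one.mp h3))

/-- The corank drops inside a subgroup of index `p`. -/
theorem Cor.inf_of_le (h : Act p A X) {B E F : Subgroup Γ} {f g : ℕ} (hB : B.relIndex A = p) (hBA : B ≤ A)
    (hEB : E ≤ B) (hFB : F ≤ B) (hE : Cor p A f E) (hF : Cor p A g F) : Cor p A (f + g - 1) (E ⊓ F) := by
  refine ⟨inf_le_left.trans hE.1, ?_⟩
  have e1 := Subgroup.relIndex_mul_relIndex E B A hEB hBA
  have e2 := Subgroup.relIndex_mul_relIndex F B A hFB hBA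
  have e3 := Subgroup.relIndex_mul_relIndex (E ⊓ F) B A (inf_le_left.trans hEB) hBA
  rw [hB] at e1 e2 e3
  have hle : (E ⊓ F).relIndex A * p ≤ p ^ (f + g) := by
    rw [← e3, pow_add]
    calc (E ⊓ F).relIndex B * p * p ≤ E.relIndex B * F.relIndex B * p * p :=
          Nat.mul_le_mul_right p (Nat.mul_le_mul_right p Subgroup.relIndex_inf_le)
      _ = (E.relIndex B * p) * (F.relIndex B * p) := by ring
      _ ≤ _ := Nat.mul_le_mul (e1 ▸ hE.2) (e2 ▸ hF.2)
  have hfg : 1 ≤ f + g := by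
    by_contra h0
    have h1 : 1 * p ≤ (E ⊓ F).relIndex A * p := Nat.mul_le_mul_right p (Nat.pos_of_ne_zero (relIndex_ne_zero _ _))
    have h2 := h1.trans hle
    rw [show f + g = 0 by omega, pow_zero, one_mul] at h2
    exact absurd h2 (not_le.mpr h.prime.one_lt)
  rw [show f + g = f + g - 1 + 1 by omega, pow_succ] at hle
  exact Nat.le_of_mul_le_mul_right hle h.prime.pos

namespace Act

variable (h : Act p A X)
include h

theorem card_coprime {K : Subgroup Γ} (hK : K ≤ X) {E : Subgroup Γ} (hE : E ≤ A) :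
    (Nat.card E).Coprime (Nat.card K) := by
  haveI := Fact.mk h.prime
  have hA : IsPGroup p A := fun a => ⟨1, Subtype.ext (by rw [pow_one]; exact h.exp a a.2)⟩
  obtain ⟨j, hj⟩ := IsPGroup.iff_card.mp (hA.to_le hE)
  rw [hj]
  exact Nat.Coprime.pow_left j (h.prime.coprime_iff_not_dvd.mpr fun hd => h.cop (hd.trans (card_dvd_of_le hK)))

theorem solvable_le {E : Subgroup Γ} (hE : E ≤ A) : Group.IsSolvable E :=
  isSolvable_of_comm fun a b => Subtype.ext (h.comm a (hE a.2) b (hE b.2))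

theorem A_le_C {E : Subgroup Γ} (hE : E ≤ A) : A ≤ C E := fun a ha =>
  mem_C.mpr fun e he => h.comm e (hE he) a ha

theorem A_le_normalizer_C {E : Subgroup Γ} (hE : E ≤ A) : A ≤ normalizer (C E : Set Γ) :=
  (h.A_le_C hE).trans Subgroup.le_normalizer

/-- A fixed coset contains a fixed element. -/
theorem lift {K N E : Subgroup Γ} (hK : K ≤ X) (hE : E ≤ A) (hEK : E ≤ normalizer (K : Set Γ)) (hNK : N ≤ K)
    (hKN : K ≤ normalizer (N : Set Γ)) (hNE : E ≤ normalizer (N : Set Γ)) {k : Γ} (hk : k ∈ K)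
    (hfix : ∀ a ∈ E, a * k * a⁻¹ * k⁻¹ ∈ N) : ∃ c ∈ K ⊓ C E, k⁻¹ * c ∈ N :=
  CfsgLib.coprime_fixed_quotient hEK (h.card_coprime hK hE) (Or.inl (h.solvable_le hE)) hNK hKN hNE hk hfix

/-- An invariant subgroup is generated by the fixed points of the subgroups of index at most `p`. -/
theorem gen_hyper {K : Subgroup Γ} (hK : K ≤ X) (hAK : A ≤ normalizer (K : Set Γ)) :
    K ≤ ⨆ B : {B : Subgroup Γ // Cor p A 1 B}, K ⊓ C B.1 := by
  haveI := Fact.mk h.prime
  suffices H : ∀ m, ∀ E : Subgroup Γ, E ≤ A → E.relIndex A = p ^ m →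
      K ⊓ C E ≤ ⨆ B : {B : Subgroup Γ // Cor p A 1 B}, K ⊓ C B.1 by
    obtain ⟨m, hm⟩ := relIndex_dvd_pow h (⊥ : Subgroup Γ)
    refine le_trans ?_ (H m ⊥ bot_le hm)
    exact le_inf le_rfl fun x _ => mem_C.mpr fun a ha => by rw [Subgroup.mem_bot.mp ha, one_mul, mul_one]
  intro m
  induction m using Nat.strong_induction_on with
  | _ m ih =>
  intro E hE hm
  by_cases hm1 : m ≤ 1
  · exact le_iSup_of_le (⟨E, hE, hm ▸ Nat.pow_le_pow_right h.prime.pos hm1⟩ : {B : Subgroup Γ // Cor p A 1 B}) le_rfl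
  have hlt : ∀ z ∈ A, z ∉ E → ∀ x ∈ K ⊓ C E, x ∈ C (zpowers z) →
      x ∈ ⨆ B : {B : Subgroup Γ // Cor p A 1 B}, K ⊓ C B.1 := by
    intro z hz hzE x hx hxz
    have hle : E ⊔ zpowers z ≤ A := sup_le hE (zpowers_le.mpr hz)
    obtain ⟨m', hm'⟩ := relIndex_dvd_pow h (E ⊔ zpowers z)
    have h1 := Subgroup.relIndex_mul_relIndex E (E ⊔ zpowers z) A le_sup_left hle
    have h2 : E.relIndex (E ⊔ zpowers z) ≠ 1 := fun e =>
      hzE (Subgroup.relIndex_eq_one.mp e (Subgroup.mem_sup_right (mem_zpowers z)))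
    have hm'lt : m' < m := by
      rw [← Nat.pow_lt_pow_iff_right h.prime.one_lt, ← hm', ← hm, ← h1]
      exact lt_mul_of_one_lt_left (Nat.pos_of_ne_zero (relIndex_ne_zero _ _))
        (by have := relIndex_ne_zero E (E ⊔ zpowers z); omega)
    exact ih m' hm'lt _ hle hm' ⟨hx.1, C_sup hx.2 hxz⟩
  obtain ⟨a, ha, haE⟩ : ∃ a ∈ A, a ∉ E := SetLike.not_le_iff_exists.mp fun hAE => by
    have := Subgroup.relIndex_eq_one.mpr hAE
    rw [hm] at this
    exact hm1 (by rcases Nat.pow_eq_one.mp this with e | e <;> [exact absurd e h.prime.ne_one; omega])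
  have hord : ∀ z ∈ A, z ∉ E → Nat.card (zpowers z) = p := fun z hz hzE => by
    rw [Nat.card_zpowers]
    exact orderOf_eq_prime (h.exp z hz) fun e => hzE (e ▸ one_mem E)
  obtain ⟨b, hb, hbE⟩ : ∃ b ∈ A, b ∉ E ⊔ zpowers a := SetLike.not_le_iff_exists.mp fun hAE => by
    have hsurj : ∀ x ∈ A, ∃ e ∈ E, ∃ i ∈ zpowers a, e * i = x := fun x hx =>
      CfsgLib.mem_sup_of_le_normalizer (fun t ht => Subgroup.mem_normalizer_iff.mpr fun y => by
        have htA : t ∈ A := (zpowers_le.mpr ha : zpowers a ≤ A) ht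
        constructor
        · intro hy
          rwa [h.comm t htA y (hE hy), mul_inv_cancel_right]
        · intro hy
          have h2 := h.comm t htA _ (hE hy)
          rw [mul_left_cancel (a := t) (b := y) (c := t * y * t⁻¹) (by rw [h2, inv_mul_cancel_right])]
          exact hy) (hAE hx)
    choose e he i hi hei using hsurj
    have hle := Nat.card_le_card_of_injective
      (fun x : A => ((⟨e x x.2, he x x.2⟩, ⟨i x x.2, hi x x.2⟩) : E × zpowers a)) fun x y hxy => Subtype.ext (by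
        rw [← hei x x.2, ← hei y y.2]
        simp only [Prod.mk.injEq, Subtype.mk.injEq] at hxy
        rw [hxy.1, hxy.2])
    rw [Nat.card_prod, hord a ha haE] at hle
    have h1 := (E.subgroupOf A).card_mul_index
    rw [Nat.card_congr (Subgroup.subgroupOfEquivOfLe hE).toEquiv] at h1
    rw [← h1, show (E.subgroupOf A).index = p ^ m from hm] at hle
    exact hm1 ((Nat.pow_le_pow_iff_right h.prime.one_lt).mp
      ((Nat.le_of_mul_le_mul_left hle Nat.card_pos).trans (pow_one p).ge))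
  have haN : ∀ z ∈ zpowers a ⊔ zpowers b, z ∈ A := fun z hz =>
    (sup_le (zpowers_le.mpr ha) (zpowers_le.mpr hb) : zpowers a ⊔ zpowers b ≤ A) hz
  set V := zpowers a ⊔ zpowers b
  haveI : IsMulCommutative V := ⟨⟨fun x y => Subtype.ext (h.comm x (haN x x.2) y (haN y y.2))⟩⟩
  have hnc : ¬ IsCyclic V := by
    intro hc
    obtain ⟨g, hg⟩ := hc.exists_zpow_surjective
    have hV : V = zpowers (g : Γ) := le_antisymm (fun x hx => by
      obtain ⟨i, hi⟩ := hg ⟨x, hx⟩
      exact ⟨i, congrArg Subtype.val hi⟩) (zpowers_le.mpr g.2)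
    have hcard : Nat.card V ≤ p := by
      rw [hV, Nat.card_zpowers]
      exact Nat.le_of_dvd h.prime.pos (orderOf_dvd_of_pow_eq_one (h.exp g (haN g g.2)))
    have hVa : zpowers a = V := Subgroup.eq_of_le_of_card_ge le_sup_left (hcard.trans (hord a ha haE).ge)
    exact hbE (Subgroup.mem_sup_right (hVa ▸ Subgroup.mem_sup_right (mem_zpowers b)))
  have hEA : A ≤ normalizer ((K ⊓ C E : Subgroup Γ) : Set Γ) := fun z hz => Subgroup.mem_normalizer_iff.mpr fun x => by
    simp only [Subgroup.mem_inf]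
    rw [← Subgroup.mem_normalizer_iff.mp (hAK hz) x, ← Subgroup.mem_normalizer_iff.mp (h.A_le_normalizer_C hE hz) x]
  intro x hx
  rw [← CfsgLib.coprime_generated_by_centralizers hnc (fun z hz => hEA (haN z hz))
    (h.card_coprime (inf_le_left.trans hK) (fun z hz => haN z hz))] at hx
  refine (iSup₂_le fun z hz => ?_ : (⨆ z ∈ {z : Γ | z ∈ V ∧ z ≠ 1}, (K ⊓ C E) ⊓ centralizer {z}) ≤ _) hx
  intro y hy
  by_cases hzE : z ∈ E
  · exfalso
    obtain ⟨x', hx', y', hy', rfl⟩ := CfsgLib.mem_sup_of_le_normalizer (A := zpowers b) (W := zpowers a)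
      (fun t ht => Subgroup.mem_normalizer_iff.mpr fun s => by
        constructor
        · intro hs
          rwa [h.comm t (haN t (Subgroup.mem_sup_right ht)) s (haN s (Subgroup.mem_sup_left hs)),
            mul_inv_cancel_right]
        · intro hs
          have := h.comm t (haN t (Subgroup.mem_sup_right ht)) _ (haN _ (Subgroup.mem_sup_left hs))
          rw [mul_left_cancel (a := t) (b := s) (c := t * s * t⁻¹) (by rw [this, inv_mul_cancel_right])]
          exact hs) hz.1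
    by_cases hy1 : y' = 1
    · subst hy1
      rw [mul_one] at hzE hz
      have hxa : zpowers x' = zpowers a := Subgroup.eq_of_le_of_card_ge (zpowers_le.mpr hx') (by
        rw [hord a ha haE, Nat.card_zpowers, orderOf_eq_prime (h.exp x' (haN x' hz.1)) hz.2])
      exact haE ((zpowers_le.mpr hzE : zpowers x' ≤ E) (hxa ▸ mem_zpowers a))
    · have hyb : zpowers y' = zpowers b := Subgroup.eq_of_le_of_card_ge (zpowers_le.mpr hy') (by
        rw [hord b hb (fun e => hbE (Subgroup.mem_sup_left e)), Nat.card_zpowers,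
          orderOf_eq_prime (h.exp y' (haN y' (Subgroup.mem_sup_right hy'))) hy1])
      have : y' ∈ E ⊔ zpowers a := by
        rw [← inv_mul_cancel_left x' y']
        exact mul_mem (inv_mem (Subgroup.mem_sup_right hx')) (Subgroup.mem_sup_left hzE)
      exact hbE ((zpowers_le.mpr this : zpowers y' ≤ _) (hyb ▸ mem_zpowers b))
  · exact hlt z (haN z hz.1) hzE y hy.1 (by
      rw [C, zpowers_eq_closure, centralizer_closure]; exact hy.2)

/-- Fixed points in a join of two subgroups, one normalised by the other. -/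
theorem fixed_sup {M N E : Subgroup Γ} (hM : M ≤ X) (hN : N ≤ X) (hE : E ≤ A) (hEM : E ≤ normalizer (M : Set Γ))
    (hEN : E ≤ normalizer (N : Set Γ)) (hMN : M ≤ normalizer (N : Set Γ)) :
    (M ⊔ N) ⊓ C E ≤ (M ⊓ C E) ⊔ (N ⊓ C E) := by
  intro x hxx
  obtain ⟨hx, hxE⟩ := Subgroup.mem_inf.mp hxx
  rw [sup_comm] at hx
  obtain ⟨n, hn, m, hm, rfl⟩ := CfsgLib.mem_sup_of_le_normalizer hMN hx
  have hinf : ∀ {g : Γ}, g ∈ normalizer (M : Set Γ) → g ∈ normalizer (N : Set Γ) →
      g ∈ normalizer ((M ⊓ N : Subgroup Γ) : Set Γ) := fun {g} h1 h2 => Subgroup.mem_normalizer_iff.mpr fun y => by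
    simp only [Subgroup.mem_inf]
    rw [← Subgroup.mem_normalizer_iff.mp h1 y, ← Subgroup.mem_normalizer_iff.mp h2 y]
  have hfix : ∀ a ∈ E, a * m * a⁻¹ * m⁻¹ ∈ M ⊓ N := fun a ha => by
    have h1 : a * m * a⁻¹ ∈ M := (Subgroup.mem_normalizer_iff.mp (hEM ha) m).mp hm
    refine Subgroup.mem_inf.mpr ⟨mul_mem h1 (inv_mem hm), ?_⟩
    have h2 : a * (n * m) * a⁻¹ = n * m := conj_eq_of_mem_C hxE ha
    have h3 : a * m * a⁻¹ * m⁻¹ = (a * n * a⁻¹)⁻¹ * n := by
      calc a * m * a⁻¹ * m⁻¹ = (a * n * a⁻¹)⁻¹ * (a * (n * m) * a⁻¹) * m⁻¹ := by group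
        _ = (a * n * a⁻¹)⁻¹ * (n * m) * m⁻¹ := by rw [h2]
        _ = _ := by group
    rw [h3]
    exact mul_mem (inv_mem ((Subgroup.mem_normalizer_iff.mp (hEN ha) n).mp hn)) hn
  obtain ⟨c, hc, hmc⟩ := h.lift (K := M) (N := M ⊓ N) hM hE hEM inf_le_left
    (fun g hg => hinf (Subgroup.le_normalizer hg) (hMN hg)) (fun g hg => hinf (hEM hg) (hEN hg)) hm hfix
  have h1 : n * m * c⁻¹ ∈ N := by
    have : m * c⁻¹ = c * (m⁻¹ * c)⁻¹ * c⁻¹ := by group
    rw [mul_assoc, this]
    exact mul_mem hn ((Subgroup.mem_normalizer_iff.mp (hMN hc.1) _).mp (inv_mem (Subgroup.mem_inf.mp hmc).2))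
  rw [show n * m = n * m * c⁻¹ * c by group]
  exact mul_mem (Subgroup.mem_sup_right (Subgroup.mem_inf.mpr ⟨h1, mul_mem hxE (inv_mem (Subgroup.mem_inf.mp hc).2)⟩))
    (Subgroup.mem_sup_left hc)

/-- Fixed points in a join of finitely many subgroups, each normalised by all. -/
theorem fixed_iSup {ι : Type*} [Finite ι] (F : ι → Subgroup Γ) {E : Subgroup Γ} (hF : ∀ i, F i ≤ X) (hE : E ≤ A)
    (hEF : ∀ i, E ≤ normalizer (F i : Set Γ)) (hFF : ∀ i j, F j ≤ normalizer (F i : Set Γ)) :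
    (⨆ i, F i) ⊓ C E ≤ ⨆ i, F i ⊓ C E := by
  classical
  haveI := Fintype.ofFinite ι
  have hnorm : ∀ (s : Finset ι) (g : Γ), (∀ i, g ∈ normalizer (F i : Set Γ)) →
      g ∈ normalizer ((s.sup F : Subgroup Γ) : Set Γ) := by
    intro s g hg
    induction s using Finset.induction_on with
    | empty => rw [Finset.sup_empty]; exact Subgroup.mem_normalizer_iff.mpr fun y => by simp
    | @insert j s hj ih =>
      rw [Finset.sup_insert]
      exact Subgroup.normalizer_inf_normalizer_le_normalizer_sup (F j) (s.sup F) ⟨hg j, ih⟩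
  suffices H : ∀ s : Finset ι, s.sup F ⊓ C E ≤ ⨆ i, F i ⊓ C E by
    have := H Finset.univ
    rwa [Finset.sup_univ_eq_iSup] at this
  intro s
  induction s using Finset.induction_on with
  | empty => rw [Finset.sup_empty, bot_inf_eq]; exact bot_le
  | @insert j s hj ih =>
    rw [Finset.sup_insert]
    refine (h.fixed_sup (hF j) (Finset.sup_le fun i _ => hF i) hE (hEF j)
      (fun g hg => hnorm s g fun i => hEF i hg) fun g hg => hnorm s g fun i => hFF i j hg).trans
      (sup_le (le_iSup (fun i => F i ⊓ C E) j) ih)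

end Act

end CfsgLib.CentClass
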