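import Cfsg.Agent.Lib.CentClass.Main

/-!
The semidirect product of a group by a group of its automorphisms.
-/

set_option autoImplicit false

namespace CfsgLib.CentClass

open Subgroup

universe u

theorem derivedSeries_map_range {G : Type u} [Group G] {K : Type u} [Group K] (f : G →* K) :
    ∀ d, (derivedSeries G d).map f = DS d f.range
  | 0 => by rw [derivedSeries_zero, ← MonoidHom.range_eq_map]; rfl
  | d + 1 => by
    rw [derivedSeries_succ, Subgroup.map_commutator, derivedSeries_map_range f d]
    rfl

variable {G : Type u} [Group G] [Finite G] {p : ℕ} (A : Subgroup (MulAut G))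

/-- The ambient group. -/
abbrev Amb : Type u := G ⋊[A.subtype] ↥A

instance : Finite (Amb A) := Finite.of_equiv _ SemidirectProduct.equivProd.symm

/-- The image of the group. -/
abbrev XX : Subgroup (Amb A) := (SemidirectProduct.inl : G →* Amb A).range

/-- The image of the acting group. -/
abbrev AA : Subgroup (Amb A) := (SemidirectProduct.inr : ↥A →* Amb A).range

omit [Finite G] in
theorem card_AA : Nat.card (AA A) = Nat.card A :=
  (Nat.card_congr (MonoidHom.ofInjective SemidirectProduct.inr_injective).toEquiv).symm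

omit [Finite G] in
theorem act_amb (hp : p.Prime) (hA : Cfsg.IsElementaryAbelian p A) (hcop : (Nat.card G).Coprime p) :
    Act p (AA A) (XX A) where
  prime := hp
  comm := by
    rintro _ ⟨a, rfl⟩ _ ⟨b, rfl⟩
    rw [← map_mul, ← map_mul, show a * b = b * a from hA.1.is_comm.comm a b]
  exp := by
    rintro _ ⟨a, rfl⟩
    rw [← map_pow, show a ^ p = 1 from Subtype.ext (hA.2 a a.2), map_one]
  normal := by
    show (SemidirectProduct.inl : G →* Amb A).range.Normal
    rw [SemidirectProduct.range_inl_eq_ker_rightHom]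
    exact MonoidHom.normal_ker _
  cop := by
    rw [show Nat.card (XX A) = Nat.card G from
      (Nat.card_congr (MonoidHom.ofInjective SemidirectProduct.inl_injective).toEquiv).symm]
    exact fun hd => hp.ne_one (Nat.eq_one_of_dvd_coprimes hcop hd dvd_rfl)

omit [Finite G] in
theorem XX_inf (a : ↥A) :
    XX A ⊓ C (zpowers (SemidirectProduct.inr a : Amb A)) =
      ((SemidirectProduct.inl : G →* Amb A).comp
        ((a : MulAut G).toMonoidHom.eqLocus (MonoidHom.id G)).subtype).range := by
  ext y
  rw [Subgroup.mem_inf, C, zpowers_eq_closure, centralizer_closure, mem_centralizer_singleton_iff]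
  constructor
  · rintro ⟨⟨x, rfl⟩, hy⟩
    refine ⟨⟨x, ?_⟩, rfl⟩
    show (a : MulAut G) x = x
    have h2 := SemidirectProduct.inl_aut (φ := A.subtype) a x
    rw [map_inv, ← hy, mul_inv_cancel_right] at h2
    exact SemidirectProduct.inl_injective h2
  · rintro ⟨⟨x, hx⟩, rfl⟩
    refine ⟨⟨x, rfl⟩, ?_⟩
    have h2 := SemidirectProduct.inl_aut (φ := A.subtype) a x
    rw [show A.subtype a x = x from hx, map_inv, eq_mul_inv_iff_mul_eq] at h2
    exact h2

omit [Finite G] in
theorem solvable_amb (hA : Cfsg.IsElementaryAbelian p A) (hX : Group.IsSolvable (XX A)) :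
    Group.IsSolvable (Amb A) := by
  have hG : Group.IsSolvable G := Group.isSolvable_of_isSolvable_injective
    (f := (SemidirectProduct.inl : G →* Amb A).rangeRestrict)
    (fun a b h => SemidirectProduct.inl_injective (congrArg Subtype.val h))
  have hA' : Group.IsSolvable ↥A := Group.isSolvable_of_comm fun a b => hA.1.is_comm.comm a b
  exact solvable_of_ker_le_range (SemidirectProduct.inl : G →* Amb A) SemidirectProduct.rightHom
    (SemidirectProduct.range_inl_eq_ker_rightHom (φ := A.subtype)).ge

/-- The bound in the form needed for a functorial subgroup computed in `G`. -/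
theorem bound_amb {F : Subgroup (Amb A) → Subgroup (Amb A)} (hF : Fn F) {f : ℕ}
    (hgen : Group.IsSolvable (Amb A) → Act p (AA A) (XX A) → Gen p (AA A) (XX A) F f) {k c d : ℕ}
    (hd : ∀ H, DS d H ≤ F H) (hp : p.Prime) (hA : Cfsg.IsElementaryAbelian p A)
    (hcop : (Nat.card G).Coprime p) (hk : Nat.card A = p ^ k) (hk3 : 3 ≤ k) (hfk : f + 1 < k)
    (hcl : ∀ a : ↥A, a ≠ 1 → (F ((SemidirectProduct.inl : G →* Amb A).comp
        ((a : MulAut G).toMonoidHom.eqLocus (MonoidHom.id G)).subtype).range).lowerCentralSeries c = ⊥) :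
    (F (XX A)).lowerCentralSeries (clsBound p k (pairLen p k c) (d + c)) = ⊥ := by
  have hact := act_amb A hp hA hcop
  have hkA : Nat.card (AA A) = p ^ k := by rw [card_AA, hk]
  have hcl' : ∀ a ∈ AA A, a ≠ 1 → (F (XX A ⊓ C (zpowers a))).lowerCentralSeries c = ⊥ := by
    rintro _ ⟨a, rfl⟩ ha1
    rw [XX_inf]
    exact hcl a fun e => ha1 (by rw [e, map_one])
  haveI hsol := solvable_amb A hA (isSolvable_X hact hF hkA hcl' hd hk3)
  exact lcs_bot hact hF (hgen hsol hact) hkA hfk hcl' hd

end CfsgLib.CentClass
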