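import Cfsg.Agent.Lib.CentClass.Layer
import Cfsg.Agent.Lib.SylowExtra
import Cfsg.Agent.Lib.HallWielandt

/-!
The fixed points of a commutator subgroup are special.
-/

set_option autoImplicit false

namespace CfsgLib.CentClass

open Subgroup
open scoped commutatorElement

universe u
variable {Γ : Type u} [Group Γ] [Finite Γ]

theorem normalizer_commutator {H K : Subgroup Γ} {g : Γ} (h1 : g ∈ normalizer (H : Set Γ))
    (h2 : g ∈ normalizer (K : Set Γ)) : g ∈ normalizer ((⁅H, K⁆ : Subgroup Γ) : Set Γ) := by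
  rw [Subgroup.mem_normalizer_iff_map_conj_eq] at *
  rw [Subgroup.map_commutator, h1, h2]

theorem normal_le_normalizer {H K : Subgroup Γ} (hH : H.Normal) : K ≤ normalizer (H : Set Γ) := by
  rw [Subgroup.normalizer_eq_top]
  exact le_top

/-- Conjugation invariance of the transfer. -/
theorem transfer_conj {K : Type u} [Group K] [Finite K] {H : Subgroup K} {Q : Type u} [CommGroup Q]
    (φ : H →* Q) (σ : MulAut K) (hσ : ∀ x, σ x ∈ H ↔ x ∈ H)
    (hφ : ∀ (x : K) (hx : x ∈ H) (hx' : σ x ∈ H), φ ⟨σ x, hx'⟩ = φ ⟨x, hx⟩) (k : K) :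
    MonoidHom.transfer φ (σ k) = MonoidHom.transfer φ k := by
  classical
  haveI := Fintype.ofFinite (K ⧸ H)
  have hwd : ∀ (τ : MulAut K), (∀ x, τ x ∈ H ↔ x ∈ H) → ∀ g : K,
      ((τ ((g : K ⧸ H).out) : K) : K ⧸ H) = (τ g : K) := fun τ hτ g => by
    rw [QuotientGroup.eq, ← map_inv, ← map_mul, hτ, ← QuotientGroup.eq, QuotientGroup.out_eq']
  have hσ' : ∀ x, σ.symm x ∈ H ↔ x ∈ H := fun x => by rw [← hσ, MulEquiv.apply_symm_apply]
  let e : K ⧸ H ≃ K ⧸ H :=
    { toFun := fun q => ((σ q.out : K) : K ⧸ H)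
      invFun := fun q => ((σ.symm q.out : K) : K ⧸ H)
      left_inv := fun q => by
        simp only []
        rw [hwd σ.symm hσ', MulEquiv.symm_apply_apply, QuotientGroup.out_eq']
      right_inv := fun q => by
        simp only []
        rw [hwd σ hσ, MulEquiv.apply_symm_apply, QuotientGroup.out_eq'] }
  have hef : ∀ q, ((σ ((e.symm q).out) : K) : K ⧸ H) = q := fun q => e.apply_symm_apply q
  rw [HallWielandt.transfer_eq_prod_section φ (fun q => q.out) QuotientGroup.out_eq' k,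
    HallWielandt.transfer_eq_prod_section φ (fun q => σ ((e.symm q).out)) hef (σ k)]
  symm
  refine Fintype.prod_equiv e _ _ fun q => ?_
  have h1 : e (k • q) = σ k • e q := by
    show ((σ ((k • q).out) : K) : K ⧸ H) = σ k • ((σ q.out : K) : K ⧸ H)
    rw [show k • q = ((k * q.out : K) : K ⧸ H) by
      conv_lhs => rw [← QuotientGroup.out_eq' q]
      rfl, hwd σ hσ, map_mul]
    rfl
  rw [← h1, Equiv.symm_apply_apply, Equiv.symm_apply_apply, ← map_inv σ, ← map_mul, ← map_mul]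
  have hm : (k • q).out⁻¹ * k * q.out ∈ H := by
    rw [mul_assoc, ← QuotientGroup.eq, QuotientGroup.out_eq']
    conv_lhs => rw [← QuotientGroup.out_eq' q]
    rfl
  rw [HallWielandt.ext_of_mem φ hm, HallWielandt.ext_of_mem φ ((hσ _).mpr hm), hφ _ hm ((hσ _).mpr hm)]

/-- A central element of a commutator subgroup lies, inside a Sylow subgroup, in the commutator with
the normalizer. -/
theorem central_mem {q : ℕ} [Fact q.Prime] {K1 K2 W0 : Subgroup Γ} (hK1 : K1.Normal) (h12 : K1 ≤ K2)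
    (hW0 : W0.Normal) (P : Sylow q K1) {x : Γ} (hx : x ∈ (P : Subgroup K1).map K1.subtype) (hxK : x ∈ ⁅K1, K2⁆)
    (hxc : ∀ k ∈ K1, ⁅x, k⁆ ∈ W0) (hcop : ∀ n : ℕ, x ^ n ∈ W0 → q ∣ n ∨ x ∈ W0) :
    x ∈ W0 ⊔ ⁅(P : Subgroup K1).map K1.subtype, K2 ⊓ normalizer ((P : Subgroup K1).map K1.subtype : Set Γ)⁆ := by
  classical
  set P1 := (P : Subgroup K1).map K1.subtype with hP1
  set N := K2 ⊓ normalizer (P1 : Set Γ) with hN
  have hP1K : P1 ≤ K1 := Subgroup.map_subtype_le _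
  have hP1N : P1 ≤ N := le_inf (hP1K.trans h12) Subgroup.le_normalizer
  set D := ⁅P1, N⁆ with hD
  have hDP : D ≤ P1 := Subgroup.le_normalizer_iff_commutator_le_left.mp inf_le_right
  set D' := (W0 ⊓ P1) ⊔ D with hD'
  obtain ⟨Q, _, ⟨Pr⟩⟩ := exists_proj (A := (⊥ : Subgroup Γ)) (W := P1) (R' := D') (sup_le inf_le_right hDP)
    ((Subgroup.commutator_mono le_rfl hP1N).trans le_sup_right) bot_le bot_le
  have hmem : ∀ y : (P : Subgroup K1), ((y : K1) : Γ) ∈ P1 := fun y => ⟨y, y.2, rfl⟩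
  let φ : (P : Subgroup K1) →* Q := MonoidHom.mk' (fun y => Pr.pe ((y : K1) : Γ))
    fun a b => Pr.mul _ (hmem a) _ (hmem b)
  set τ := MonoidHom.transfer φ with hτ
  have hker : ⁅K1, K2⁆ ≤ τ.ker.map K1.subtype := by
    refine Subgroup.commutator_le.mpr fun a ha g hg => ?_
    haveI := hK1
    have htop : g ∈ normalizer (P1 : Set Γ) ⊔ K1 := by
      rw [hP1, Sylow.normalizer_sup_eq_top P]; exact Subgroup.mem_top g
    rw [Subgroup.mem_sup_of_normal_right] at htop
    obtain ⟨n, hn, k, hk, rfl⟩ := htop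
    have hn2 : n ∈ N := by
      refine Subgroup.mem_inf.mpr ⟨?_, hn⟩
      have := mul_mem hg (inv_mem (h12 hk))
      rwa [mul_inv_cancel_right] at this
    set σ : MulAut K1 := MulAut.conjNormal n with hσ
    have hσH : ∀ z : K1, σ z ∈ (P : Subgroup K1) ↔ z ∈ (P : Subgroup K1) := fun z => by
      have h1 := Subgroup.mem_normalizer_iff.mp hn (z : Γ)
      have h2 : ∀ w : K1, (w : Γ) ∈ P1 ↔ w ∈ (P : Subgroup K1) := fun w =>
        ⟨fun ⟨v, hv, e⟩ => (Subtype.ext e : v = w) ▸ hv, fun hw => ⟨w, hw, rfl⟩⟩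
      rw [← h2, ← h2, hσ, MulAut.conjNormal_apply]
      exact h1.symm
    have hφσ : ∀ (z : K1) (hz : z ∈ (P : Subgroup K1)) (hz' : σ z ∈ (P : Subgroup K1)),
        φ ⟨σ z, hz'⟩ = φ ⟨z, hz⟩ := fun z hz hz' => by
      refine (Pr.pe_eq (hmem ⟨z, hz⟩) (hmem ⟨σ z, hz'⟩) ?_).symm
      refine Subgroup.mem_sup_right ?_
      show (z : Γ)⁻¹ * (σ z : Γ) ∈ D
      rw [hσ, MulAut.conjNormal_apply,
        show (z : Γ)⁻¹ * (n * z * n⁻¹) = ⁅(z : Γ)⁻¹, n⁆ by rw [commutatorElement_def]; group]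
      exact Subgroup.commutator_mem_commutator (inv_mem (hmem ⟨z, hz⟩)) hn2
    let a' : K1 := ⟨a, ha⟩
    let k' : K1 := ⟨k, hk⟩
    refine ⟨a' * (σ (k' * a'⁻¹ * k'⁻¹)), ?_, ?_⟩
    · rw [SetLike.mem_coe, MonoidHom.mem_ker, map_mul, transfer_conj φ σ hσH hφσ, map_mul, map_mul, map_inv,
        map_inv, mul_comm (τ k'), mul_inv_cancel_right, mul_inv_cancel]
    · rw [Subgroup.coe_subtype, Subgroup.coe_mul, hσ, MulAut.conjNormal_apply, commutatorElement_def]
      show a * (n * (k * a⁻¹ * k⁻¹) * n⁻¹) = _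
      group
  obtain ⟨y, hy, hyx⟩ := hker hxK
  have hyP : y ∈ (P : Subgroup K1) := by
    obtain ⟨v, hv, e⟩ := hx
    exact (Subtype.ext (e.trans hyx.symm) : v = y) ▸ hv
  have hτy : τ y = 1 := hy
  have hyx' : (y : Γ) = x := hyx
  have hpe : Pr.pe x ^ (P : Subgroup K1).index = 1 := by
    letI := (P : Subgroup K1).fintypeQuotientOfFiniteIndex
    rw [← hτy, hτ, MonoidHom.transfer_eq_prod_quotient_orbitRel_zpowers_quot,
      Subgroup.index_eq_sum_minimalPeriod (P : Subgroup K1) y, ← Finset.prod_pow_eq_pow_sum]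
    refine Finset.prod_congr rfl fun o _ => ?_
    set m := Function.minimalPeriod (fun z => y • z) o.out with hm
    set c := o.out.out with hc
    rw [← Pr.pe_pow (hyx' ▸ hmem ⟨y, hyP⟩ : x ∈ P1) m]
    show Pr.pe (x ^ m) = Pr.pe ((c⁻¹ * y ^ m * c : K1) : Γ)
    have h1 : x ^ m ∈ P1 := pow_mem (hyx' ▸ hmem ⟨y, hyP⟩) m
    have h2 : ((c⁻¹ * y ^ m * c : K1) : Γ) ∈ P1 :=
      hmem ⟨_, QuotientGroup.out_conj_pow_minimalPeriod_mem (P : Subgroup K1) y o.out⟩
    refine Pr.pe_eq h1 h2 (Subgroup.mem_sup_left (Subgroup.mem_inf.mpr ⟨?_, mul_mem (inv_mem h1) h2⟩))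
    have hxk : ∀ j : ℕ, ⁅x ^ j, ((c : K1) : Γ)⁻¹⁆ ∈ W0 := by
      intro j
      induction j with
      | zero => rw [pow_zero, commutatorElement_one_left]; exact one_mem W0
      | succ j ih =>
        rw [pow_succ', show ⁅x * x ^ j, ((c : K1) : Γ)⁻¹⁆ =
          x * ⁅x ^ j, ((c : K1) : Γ)⁻¹⁆ * x⁻¹ * ⁅x, ((c : K1) : Γ)⁻¹⁆ by simp only [commutatorElement_def]; group]
        exact mul_mem (hW0.conj_mem _ ih x) (hxc _ (inv_mem c.2))
    have h3 := hW0.conj_mem _ (inv_mem (hxk m)) (x ^ m)⁻¹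
    push_cast
    rw [hyx']
    rw [commutatorElement_def] at h3
    convert h3 using 1
    group
  have hxP : x ∈ P1 := hyx' ▸ hmem ⟨y, hyP⟩
  obtain ⟨j, hj⟩ := IsPGroup.iff_card.mp (P.2.map K1.subtype)
  have hcopi : ((P : Subgroup K1).index).Coprime (Nat.card P1) := by
    rw [hP1, hj]
    exact Nat.Coprime.pow_right j (((Fact.out : q.Prime).coprime_iff_not_dvd.mpr P.not_dvd_index).symm)
  have h1 := (Pr.ker x hxP).mp (Proj.eq_one_of_pow hcopi hpe (Pr.pow_card hxP))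
  exact (sup_le_sup_right inf_le_left D) h1

variable {p : ℕ} {A X : Subgroup Γ}

/-- **The fixed points of a commutator of functorial subgroups are special.** -/
theorem gen_comm [Group.IsSolvable Γ] (h : Act p A X) {F1 F2 F3 : Subgroup Γ → Subgroup Γ} (hF1 : Fn F1)
    (hF2 : Fn F2) (hF3 : Fn F3) (h3 : ∀ H, ⁅F1 H, F2 H⁆ ≤ F3 H) (h3' : F3 X = ⁅F1 X, F2 X⁆)
    (h12 : F1 X ≤ F2 X) {f1 f2 : ℕ} (g1 : Gen p A X F1 f1) (g2 : Gen p A X F2 f2) :
    Gen p A X F3 (f1 + f2) := by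
  have := g1.one_le
  haveI := h.normal
  have hnorm : ∀ F : Subgroup Γ → Subgroup Γ, Fn F → (F X).Normal := fun F hF => by
    rw [← Subgroup.normalizer_eq_top_iff, eq_top_iff, ← Subgroup.normalizer_eq_top (H := X)]
    exact hF.conj X
  have hN1 := hnorm F1 hF1
  have hN2 := hnorm F2 hF2
  set K1 := F1 X
  set K2 := F2 X
  have h31 : ⁅K1, K2⁆ ≤ K1 := Subgroup.commutator_le_left K1 K2
  have hbot : Good p A X F3 (f1 + f2) ⊥ :=
    ⟨fun B _ => by rw [bot_inf_eq]; exact bot_le, by rw [bot_inf_eq]; exact bot_le⟩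
  suffices H : ∀ m, ∀ W : Subgroup Γ, Nat.card W = m → W.Normal → W ≤ ⁅K1, K2⁆ → Good p A X F3 (f1 + f2) W by
    have hG := H _ (F3 X) rfl (hnorm F3 hF3) h3'.le
    exact ⟨by omega, hG.1, hG.2⟩
  intro m
  induction m using Nat.strong_induction_on with
  | _ m ih =>
  intro W hm hW hWK
  by_cases hW0' : W = ⊥
  · rw [hW0']; exact hbot
  haveI := hW
  obtain ⟨W0, ⟨hW0n, hWW, hlt⟩, hmax⟩ := Set.Finite.exists_maximal
    (Set.toFinite {V : Subgroup Γ | V.Normal ∧ ⁅W, W⁆ ≤ V ∧ V < W})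
    ⟨⁅W, W⁆, inferInstance, le_rfl, Group.IsSolvable.commutator_lt_of_ne_bot hW0'⟩
  haveI := hW0n
  have hGW0 : Good p A X F3 (f1 + f2) W0 :=
    ih _ (hm ▸ lt_of_le_of_ne (Subgroup.card_le_of_le hlt.le) fun e =>
      hlt.ne (Subgroup.eq_of_le_of_card_ge hlt.le e.ge)) W0 rfl hW0n (hlt.le.trans hWK)
  have hmax' : ∀ V : Subgroup Γ, V.Normal → W0 ≤ V → V ≤ W → V = W0 ∨ V = W := fun V hV h1 h2 => by
    rcases eq_or_lt_of_le h2 with e | e
    · exact Or.inr e
    · exact Or.inl (le_antisymm (hmax ⟨hV, hWW.trans h1, e⟩ h1) h1)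
  by_cases hc : ⁅W, K2⁆ ≤ W0
  swap
  · refine layer_good h hF1 hF2 hF3 h3 g1 g2 (U := W) (J := K2) (W := W) (W0 := W0)
      ⟨hWK.trans h31, le_rfl, normal_le_normalizer hW, normal_le_normalizer hN2, normal_le_normalizer hW,
        normal_le_normalizer hW0n, le_rfl, hlt.le, hWW, hWW, Subgroup.commutator_le_left W K2, ?_⟩ hGW0
    rcases hmax' (W0 ⊔ ⁅W, K2⁆) inferInstance le_sup_left (sup_le hlt.le (Subgroup.commutator_le_left W K2)) with
      e | e
    · exact absurd (le_sup_right.trans e.le) hc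
    · exact e.ge
  -- the central case
  obtain ⟨q, hq, hqd⟩ := Nat.exists_prime_and_dvd (n := W0.relIndex W) fun e =>
    hlt.ne (le_antisymm hlt.le (Subgroup.relIndex_eq_one.mp e))
  haveI := Fact.mk hq
  obtain ⟨Q, _, ⟨Pr⟩⟩ := exists_proj (A := (⊥ : Subgroup Γ)) (W := W) (R' := W0) hlt.le hWW bot_le bot_le
  let V : Subgroup Γ :=
    { carrier := {w | w ∈ W ∧ w ^ q ∈ W0}
      one_mem' := ⟨one_mem W, by rw [one_pow]; exact one_mem W0⟩
      mul_mem' := fun {a b} ha hb => ⟨mul_mem ha.1 hb.1, by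
        rw [← Pr.ker _ (pow_mem (mul_mem ha.1 hb.1) q), Pr.pe_pow (mul_mem ha.1 hb.1), Pr.mul _ ha.1 _ hb.1, mul_pow,
          ← Pr.pe_pow ha.1, ← Pr.pe_pow hb.1, (Pr.ker _ (pow_mem ha.1 q)).mpr ha.2,
          (Pr.ker _ (pow_mem hb.1 q)).mpr hb.2, one_mul]⟩
      inv_mem' := fun {a} ha => ⟨inv_mem ha.1, by rw [inv_pow]; exact inv_mem ha.2⟩ }
  have hVn : V.Normal := ⟨fun v hv g => ⟨hW.conj_mem v hv.1 g, by rw [conj_pow]; exact hW0n.conj_mem _ hv.2 g⟩⟩
  have hWV : ∀ w ∈ W, w ^ q ∈ W0 := by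
    rcases hmax' V hVn (fun w hw => ⟨hlt.le hw, pow_mem hw q⟩) (fun w hw => hw.1) with e | e
    · exfalso
      obtain ⟨w, hw⟩ := exists_prime_orderOf_dvd_card' (G := ↥W ⧸ W0.subgroupOf W) q hqd
      obtain ⟨w, rfl⟩ := QuotientGroup.mk'_surjective _ w
      have h1 := pow_orderOf_eq_one (QuotientGroup.mk' (W0.subgroupOf W) w)
      rw [hw, ← map_pow, QuotientGroup.mk'_apply, QuotientGroup.eq_one_iff, Subgroup.mem_subgroupOf] at h1
      have h2 : (w : Γ) ∈ V := ⟨w.2, by simpa using h1⟩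
      rw [e] at h2
      rw [show QuotientGroup.mk' (W0.subgroupOf W) w = 1 from
        (QuotientGroup.eq_one_iff w).mpr (Subgroup.mem_subgroupOf.mpr h2), orderOf_one] at hw
      exact hq.ne_one hw.symm
    · exact fun w hw => (e.ge hw).2
  have hK1X : K1 ≤ X := hF1.le X
  obtain ⟨P, hAP⟩ := CfsgLib.coprime_exists_invariant_sylow (normal_le_normalizer (K := A) hN1)
    (h.card_coprime hK1X le_rfl) (Or.inl (h.solvable_le le_rfl)) q
  set P1 := (P : Subgroup K1).map K1.subtype with hP1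
  have hP1K : P1 ≤ K1 := Subgroup.map_subtype_le _
  set N := K2 ⊓ normalizer (P1 : Set Γ) with hN
  have hP1N : P1 ≤ N := le_inf (hP1K.trans h12) Subgroup.le_normalizer
  set D := ⁅P1, N⁆ with hD
  have hDP : D ≤ P1 := Subgroup.le_normalizer_iff_commutator_le_left.mp inf_le_right
  have hAN : A ≤ normalizer (N : Set Γ) := fun a ha =>
    normalizer_inf (normal_le_normalizer hN2 ha) (Subgroup.le_normalizer (hAP ha))
  -- the layers of the Sylow subgroup
  have hlcs : ∀ i, A ≤ normalizer ((P1.lowerCentralSeries i : Subgroup Γ) : Set Γ) := fun i => by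
    induction i with
    | zero => exact hAP
    | succ i ihh => exact fun a ha => normalizer_commutator (ihh ha) (hAP ha)
  have hGD : Good p A X F3 (f1 + f2) D := by
    have hγ : Good p A X F3 (f1 + f2) (P1.lowerCentralSeries 1) := by
      have hnil : Group.IsNilpotent P1 := (P.2.map K1.subtype).isNilpotent
      obtain ⟨n, hn⟩ := (Subgroup.isNilpotent_iff_lowerCentralSeries P1).mp hnil
      have hdown : ∀ j, ∀ i, 1 ≤ i → n ≤ i + j → Good p A X F3 (f1 + f2) (P1.lowerCentralSeries i) := by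
        intro j
        induction j with
        | zero =>
          intro i _ hi
          have h0 : P1.lowerCentralSeries i = ⊥ :=
            le_bot_iff.mp ((P1.lowerCentralSeries_antitone (by omega)).trans hn.le)
          rw [h0]; exact hbot
        | succ j ihj =>
          intro i hi1 hi
          obtain ⟨i, rfl⟩ : ∃ k, i = k + 1 := ⟨i - 1, by omega⟩
          have hU : P1.lowerCentralSeries i ≤ P1 := Subgroup.lowerCentralSeries_le_self _ _
          have hW' : P1.lowerCentralSeries (i + 1) ≤ P1 := Subgroup.lowerCentralSeries_le_self _ _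
          refine layer_good h hF1 hF2 hF3 h3 g1 g2 (U := P1.lowerCentralSeries i) (J := P1)
            (W := P1.lowerCentralSeries (i + 1)) (W0 := P1.lowerCentralSeries (i + 2))
            ⟨hU.trans hP1K, hP1K.trans h12, hlcs i, hAP, hlcs (i + 1), hlcs (i + 2),
              P1.lowerCentralSeries_antitone (Nat.le_succ i), P1.lowerCentralSeries_antitone (Nat.le_succ (i + 1)),
              Subgroup.commutator_mono le_rfl hW', ?_, le_rfl, le_sup_right⟩ (ihj (i + 2) (by omega) (by omega))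
          rw [Subgroup.commutator_comm]
          exact Subgroup.commutator_mono le_rfl hU
      exact hdown n 1 le_rfl (by omega)
    have h1 : P1.lowerCentralSeries 1 = ⁅P1, P1⁆ := by
      rw [Subgroup.lowerCentralSeries_succ, Subgroup.lowerCentralSeries_zero]
    rw [h1] at hγ
    exact layer_good h hF1 hF2 hF3 h3 g1 g2 (U := P1) (J := N) (W := D) (W0 := ⁅P1, P1⁆)
      ⟨hP1K, inf_le_left, hAP, hAN, fun a ha => normalizer_commutator (hAP ha) (hAN ha),
        fun a ha => normalizer_commutator (hAP ha) (hAP ha), hDP, Subgroup.commutator_mono le_rfl hP1N,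
        Subgroup.commutator_mono hDP hDP, Subgroup.commutator_mono le_rfl hDP, le_rfl, le_sup_right⟩ hγ
  -- `W` is covered by `W0` and `D`
  have hcover : W ≤ W0 ⊔ (W ⊓ D) := by
    intro w hw
    set T := W0 ⊔ (W ⊓ P1) with hT
    have hTW : T ≤ W := sup_le hlt.le inf_le_left
    haveI : (T.subgroupOf W).Normal := ⟨fun x hx g => by
      rw [Subgroup.mem_subgroupOf] at hx ⊢
      push_cast
      rw [show (g : Γ) * x * (g : Γ)⁻¹ = ⁅(g : Γ), (x : Γ)⁆ * x by rw [commutatorElement_def]; group]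
      exact mul_mem (Subgroup.mem_sup_left (hWW (Subgroup.commutator_mem_commutator g.2 (hTW hx)))) hx⟩
    have hr : ¬ q ∣ T.relIndex W := by
      intro hd
      haveI : (W.subgroupOf K1).Normal := inferInstance
      refine CfsgLib.not_dvd_relIndex_of_sylow P (W.subgroupOf K1) (hd.trans ?_)
      rw [← Subgroup.relIndex_map_map_of_injective (f := K1.subtype) _ _ K1.subtype_injective,
        Subgroup.map_subgroupOf_eq_of_le (hWK.trans h31), ← hP1, ← Subgroup.inf_relIndex_right P1 W, inf_comm]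
      exact Subgroup.relIndex_dvd_of_le_left _ le_sup_right
    have hwT : w ∈ T := by
      have h1 : w ^ T.relIndex W ∈ T := by
        have := Subgroup.pow_index_mem (T.subgroupOf W) ⟨w, hw⟩
        rwa [Subgroup.mem_subgroupOf] at this
      have h2 : w ^ q ∈ T := Subgroup.mem_sup_left (hWV w hw)
      have h3 := Nat.Coprime.symm ((hq.coprime_iff_not_dvd).mpr hr)
      obtain ⟨u, v, huv⟩ : ∃ u v : ℤ, (T.relIndex W : ℤ) * u + (q : ℤ) * v = 1 := ⟨_, _,
        (Int.gcd_eq_gcd_ab (T.relIndex W : ℤ) (q : ℤ)).symm.trans (by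
          rw [Int.gcd_natCast_natCast, h3.gcd_eq_one]; rfl)⟩
      rw [← zpow_one w, ← huv, zpow_add, zpow_mul, zpow_mul, zpow_natCast, zpow_natCast]
      exact mul_mem (zpow_mem h1 u) (zpow_mem h2 v)
    rw [hT, Subgroup.mem_sup_of_normal_left] at hwT
    obtain ⟨w0, hw0, x, hx, rfl⟩ := hwT
    obtain ⟨hxW, hxP⟩ := Subgroup.mem_inf.mp hx
    refine mul_mem (Subgroup.mem_sup_left hw0) ?_
    have h1 := central_mem hN1 h12 hW0n P hxP (hWK hxW)
      (fun k hk => hc (Subgroup.commutator_mem_commutator hxW (h12 hk))) fun n hn => by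
        by_cases hd : q ∣ n
        · exact Or.inl hd
        · refine Or.inr ?_
          have h3 := ((hq.coprime_iff_not_dvd).mpr hd).symm
          obtain ⟨u, v, huv⟩ : ∃ u v : ℤ, (n : ℤ) * u + (q : ℤ) * v = 1 := ⟨_, _,
            (Int.gcd_eq_gcd_ab (n : ℤ) (q : ℤ)).symm.trans (by
              rw [Int.gcd_natCast_natCast, h3.gcd_eq_one]; rfl)⟩
          rw [← zpow_one x, ← huv, zpow_add, zpow_mul, zpow_mul, zpow_natCast, zpow_natCast]
          exact mul_mem (zpow_mem hn u) (zpow_mem (hWV x hxW) v)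
    rw [← hP1, ← hN, ← hD, Subgroup.mem_sup_of_normal_left] at h1
    obtain ⟨a, ha, d, hd, rfl⟩ := h1
    refine mul_mem (Subgroup.mem_sup_left ha) (Subgroup.mem_sup_right (Subgroup.mem_inf.mpr ⟨?_, hd⟩))
    have := mul_mem (inv_mem (hlt.le ha)) hxW
    rwa [inv_mul_cancel_left] at this
  have hAD : A ≤ normalizer (D : Set Γ) := fun a ha => normalizer_commutator (hAP ha) (hAN ha)
  have lift : ∀ B : Subgroup Γ, B ≤ A → ∀ g : ℕ, W0 ⊓ C B ≤ R p A X F3 g B → D ⊓ C B ≤ R p A X F3 g B →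
      W ⊓ C B ≤ R p A X F3 g B := by
    intro B hB g h1 h2 w hw
    obtain ⟨hwW, hwB⟩ := Subgroup.mem_inf.mp hw
    have := hcover hwW
    rw [Subgroup.mem_sup_of_normal_left] at this
    obtain ⟨w0, hw0, d, hd, rfl⟩ := this
    obtain ⟨c, hc, hdc⟩ := h.lift (K := W ⊓ D) (N := W0 ⊓ D)
      (inf_le_left.trans ((hWK.trans h31).trans hK1X)) hB
      (fun b hb => normalizer_inf (normal_le_normalizer hW hb) (hAD (hB hb)))
      (inf_le_inf_right D hlt.le)
      (fun b hb => normalizer_inf (normal_le_normalizer hW0n hb) (Subgroup.le_normalizer (Subgroup.mem_inf.mp hb).2))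
      (fun b hb => normalizer_inf (normal_le_normalizer hW0n hb) (hAD (hB hb))) hd (fun b hb => by
        have hdD := (Subgroup.mem_inf.mp hd).2
        refine Subgroup.mem_inf.mpr ⟨?_, mul_mem ((Subgroup.mem_normalizer_iff.mp (hAD (hB hb)) d).mp hdD) (inv_mem hdD)⟩
        have e := conj_eq_of_mem_C hwB hb
        have e' : b * d * b⁻¹ * d⁻¹ = (b * w0 * b⁻¹)⁻¹ * w0 := by
          calc b * d * b⁻¹ * d⁻¹ = (b * w0 * b⁻¹)⁻¹ * (b * (w0 * d) * b⁻¹) * d⁻¹ := by group
            _ = (b * w0 * b⁻¹)⁻¹ * (w0 * d) * d⁻¹ := by rw [e]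
            _ = _ := by group
        rw [e']
        exact mul_mem (inv_mem (hW0n.conj_mem w0 hw0 b)) hw0)
    obtain ⟨hcWD, hcB⟩ := Subgroup.mem_inf.mp hc
    have hcR := h2 (Subgroup.mem_inf.mpr ⟨(Subgroup.mem_inf.mp hcWD).2, hcB⟩)
    have h4 : w0 * d * c⁻¹ ∈ W0 := by
      have h5 := hW0n.conj_mem _ (inv_mem (Subgroup.mem_inf.mp hdc).1) d
      rw [mul_assoc]
      refine mul_mem hw0 ?_
      convert h5 using 1
      group
    rw [show w0 * d = w0 * d * c⁻¹ * c by rw [inv_mul_cancel_right]]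
    exact mul_mem (h1 (Subgroup.mem_inf.mpr ⟨h4, mul_mem hwB (inv_mem hcB)⟩)) hcR
  exact ⟨fun B hB => lift B hB.1 _ (hGW0.1 B hB) (hGD.1 B hB), lift A le_rfl _ hGW0.2 hGD.2⟩

theorem fn_id : Fn (fun H : Subgroup Γ => H) :=
  ⟨fun _ => le_rfl, fun h => h, fun _ => le_rfl⟩

theorem gen_id (h : Act p A X) : Gen p A X (fun H => H) 1 := by
  refine ⟨le_rfl, fun B hB x hx => ?_, fun x hx => ?_⟩
  · exact mem_R hB le_rfl hx (Subgroup.mem_inf.mp hx).2
  · exact mem_R (Cor.self 0 h.prime) le_rfl hx (Subgroup.mem_inf.mp hx).2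

/-- The derived subgroups of a subgroup. -/
def DS : ℕ → Subgroup Γ → Subgroup Γ
  | 0, H => H
  | d + 1, H => ⁅DS d H, DS d H⁆

theorem fn_DS : ∀ d, Fn (DS (Γ := Γ) d)
  | 0 => fn_id
  | d + 1 =>
    { le := fun H => (Subgroup.commutator_mono ((fn_DS d).le H) ((fn_DS d).le H)).trans (Subgroup.commutator_le_self H)
      mono := fun {_ _} hle => Subgroup.commutator_mono ((fn_DS d).mono hle) ((fn_DS d).mono hle)
      conj := fun H _ hg => normalizer_commutator ((fn_DS d).conj H hg) ((fn_DS d).conj H hg) }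

theorem fn_lcs : ∀ j, Fn (fun H : Subgroup Γ => H.lowerCentralSeries j)
  | 0 => fn_id
  | j + 1 =>
    { le := fun H => H.lowerCentralSeries_le_self _
      mono := fun {_ _} hle => Subgroup.commutator_mono ((fn_lcs j).mono hle) hle
      conj := fun H _ hg => normalizer_commutator ((fn_lcs j).conj H hg) hg }

theorem gen_DS [Group.IsSolvable Γ] (h : Act p A X) : ∀ d, Gen p A X (DS d) (2 ^ d)
  | 0 => gen_id h
  | d + 1 => by
    rw [pow_succ, Nat.mul_two]
    exact gen_comm h (fn_DS d) (fn_DS d) (fn_DS (d + 1)) (fun _ => le_rfl) rfl le_rfl (gen_DS h d) (gen_DS h d)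

theorem gen_lcs [Group.IsSolvable Γ] (h : Act p A X) : ∀ j, Gen p A X (fun H => H.lowerCentralSeries j) (j + 1)
  | 0 => gen_id h
  | j + 1 => gen_comm h (fn_lcs j) fn_id (fn_lcs (j + 1)) (fun _ => le_rfl) rfl
      (Subgroup.lowerCentralSeries_le_self X j) (gen_lcs h j) (gen_id h)

end CfsgLib.CentClass
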