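import Cfsg.Agent.Lib.CentClass.LieNil
import Cfsg.Agent.Lib.CentClass.Gen
import Cfsg.Agent.Lib.AlperinBound.Fixed

/-!
The class of a nilpotent group with nilpotently acting fixed points of subgroups of index `p`.
-/

set_option autoImplicit false

namespace CfsgLib.CentClass

open Subgroup CfsgLib.LieFpf
open scoped commutatorElement

universe u
variable {Γ : Type u} [Group Γ] [Finite Γ] {p : ℕ} {A X : Subgroup Γ}

/-- An iterated commutator. -/
def cfold (x : Γ) (l : List Γ) : Γ := l.foldl (fun v z => ⁅v, z⁆) x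

/-- Every `m`-fold commutator of fixed points of two subgroups of index at most `p` is trivial. -/
def PairNil (p : ℕ) (A N : Subgroup Γ) (m : ℕ) : Prop :=
  ∀ B B', Cor p A 1 B → Cor p A 1 B' → ∀ x ∈ N ⊓ C B', ∀ l : List Γ, l.length = m →
    (∀ z ∈ l, z ∈ N ⊓ C B) → cfold x l = 1

variable {N : Subgroup Γ}

/-- The lower central series of `N`. -/
abbrev gam (N : Subgroup Γ) : ℕ → Subgroup ↥N := Subgroup.lowerCentralSeries (⊤ : Subgroup ↥N)

/-- The classes of the elements with a property. -/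
noncomputable def clsSpan (P : ℕ → ↥N → Prop) : AddSubgroup (LG ↥N) :=
  AddSubgroup.closure {z | ∃ (j : ℕ) (g : ↥N), g ∈ gam N j ∧ P j g ∧ cls j g = z}

theorem mem_clsSpan {P : ℕ → ↥N → Prop} {j : ℕ} {g : ↥N} (hg : g ∈ gam N j) (hP : P j g) :
    cls j g ∈ clsSpan P :=
  AddSubgroup.subset_closure ⟨j, g, hg, hP, rfl⟩

omit [Finite Γ] in
theorem fold_cls : ∀ (l : List (LG ↥N)) (j : ℕ) (g : ↥N) (S : Set Γ), g ∈ gam N j →
    (∀ x ∈ l, ∃ (i : ℕ) (z : ↥N), z ∈ gam N i ∧ (z : Γ) ∈ S ∧ cls i z = x) →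
    ∃ (J : ℕ) (w : ↥N) (zs : List Γ), w ∈ gam N J ∧ fold (cls j g) l = cls J w ∧ zs.length = l.length ∧
      (∀ z ∈ zs, z ∈ S) ∧ (w : Γ) = cfold (g : Γ) zs := by
  intro l
  induction l with
  | nil => intro j g S hg _; exact ⟨j, g, [], hg, rfl, rfl, fun z hz => absurd hz List.not_mem_nil, rfl⟩
  | cons x l ih =>
    intro j g S hg h
    obtain ⟨i, z, hz, hzS, hzx⟩ := h x List.mem_cons_self
    obtain ⟨J, w, zs, hw, hfold, hlen, hzs, hwe⟩ :=
      ih (j + i + 1) ⁅g, z⁆ S (comm_mem rfl hg hz) fun y hy => h y (List.mem_cons_of_mem _ hy)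
    refine ⟨J, w, (z : Γ) :: zs, hw, ?_, by simp [hlen], ?_, ?_⟩
    · show fold ⁅cls j g, x⁆ l = cls J w
      rw [← hzx, lie_def, bk_cls hg hz]
      exact hfold
    · intro y hy
      rcases List.mem_cons.mp hy with rfl | hy
      · exact hzS
      · exact hzs y hy
    · rw [hwe]
      rfl

theorem lcs_le_actN {L : Type*} [LieRing L] : ∀ k, lcs L k ≤ actN (⊤ : AddSubgroup L) k ⊤
  | 0 => le_rfl
  | k + 1 => (AddSubgroup.closure_le _).mpr (by
      rintro _ ⟨x, hx, y, rfl⟩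
      exact mem_act (lcs_le_actN k hx) (AddSubgroup.mem_top y))

theorem derL_hom : ∀ i, derL (LG ↥N) i ≤ clsSpan (fun j g => cls j g ∈ derL (LG ↥N) i)
  | 0 => fun x hx0 => by
    clear hx0
    induction x using LG.induction with
    | zero => exact zero_mem _
    | hcls n g hg => exact mem_clsSpan hg (AddSubgroup.mem_top _)
    | add a b ha hb => exact add_mem ha hb
  | i + 1 => (AddSubgroup.closure_le _).mpr (by
      rintro _ ⟨x, hx, y, hy, rfl⟩
      refine lie_closure ?_ (derL_hom i hx) (derL_hom i hy)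
      rintro _ ⟨j, g, hg, hgd, rfl⟩ _ ⟨l, g', hg', hgd', rfl⟩
      rw [lie_def, bk_cls hg hg']
      refine mem_clsSpan (comm_mem rfl hg hg') ?_
      rw [← bk_cls hg hg']
      exact AddSubgroup.subset_closure ⟨_, hgd, _, hgd', rfl⟩)

variable (h : Act p A X) (hN : N.Normal) (hNX : N ≤ X)
include h hN hNX

theorem conjNormal_mem {a : Γ} (i : ℕ) {g : ↥N} (hg : g ∈ gam N i) :
    haveI := hN
    MulAut.conjNormal (H := N) a g ∈ gam N i :=
  autA.aut_mem _ hg

/-- Decomposition of an invariant set of classes by the fixed points of the subgroups of index at most `p`. -/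
theorem cls_decompose (j : ℕ) {g : ↥N} (hg : g ∈ gam N j) (P : Γ → Prop) (h1 : P 1)
    (hmul : ∀ x y : ↥N, x ∈ gam N j → y ∈ gam N j → P x → P y → P (x * y))
    (hinv : ∀ x : ↥N, x ∈ gam N j → P x → P (x : Γ)⁻¹)
    (hA : ∀ a ∈ A, ∀ x : ↥N, x ∈ gam N j → P x → P (a * x * a⁻¹)) (hPg : P g) :
    cls j g ∈ AddSubgroup.closure {z | ∃ (B : {B : Subgroup Γ // Cor p A 1 B}) (v : ↥N),
      v ∈ gam N j ∧ P v ∧ (v : Γ) ∈ C B.1 ∧ cls j v = z} := by
  haveI := hN
  let K : Subgroup Γ :=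
    { carrier := {x | ∃ v : ↥N, v ∈ gam N j ∧ P v ∧ (v : Γ) = x}
      one_mem' := ⟨1, one_mem _, h1, rfl⟩
      mul_mem' := by
        rintro _ _ ⟨v, hv, hPv, rfl⟩ ⟨w, hw, hPw, rfl⟩
        exact ⟨v * w, mul_mem hv hw, by rw [Subgroup.coe_mul]; exact hmul v w hv hw hPv hPw, rfl⟩
      inv_mem' := by
        rintro _ ⟨v, hv, hPv, rfl⟩
        exact ⟨v⁻¹, inv_mem hv, by rw [InvMemClass.coe_inv]; exact hinv v hv hPv, rfl⟩ }
  have hKX : K ≤ X := by rintro _ ⟨v, -, -, rfl⟩; exact hNX v.2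
  have hconj : ∀ a ∈ A, ∀ x ∈ K, a * x * a⁻¹ ∈ K := by
    rintro a ha _ ⟨v, hv, hPv, rfl⟩
    exact ⟨MulAut.conjNormal a v, conjNormal_mem h hN hNX j hv,
      by rw [MulAut.conjNormal_apply]; exact hA a ha v hv hPv, MulAut.conjNormal_apply a v⟩
  have hAK : A ≤ normalizer (K : Set Γ) := fun a ha => Subgroup.mem_normalizer_iff.mpr fun x =>
    ⟨hconj a ha x, fun hx => by
      have := hconj a⁻¹ (inv_mem ha) _ hx
      rwa [show a⁻¹ * (a * x * a⁻¹) * a⁻¹⁻¹ = x by group] at this⟩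
  have hgK : (g : Γ) ∈ K := ⟨g, hg, hPg, rfl⟩
  have hsup := h.gen_hyper hKX hAK hgK
  suffices H : ∀ x : Γ, x ∈ ⨆ B : {B : Subgroup Γ // Cor p A 1 B}, K ⊓ C B.1 → ∃ w : ↥N, (w : Γ) = x ∧ w ∈ gam N j ∧
      cls j w ∈ AddSubgroup.closure {z | ∃ (B : {B : Subgroup Γ // Cor p A 1 B}) (v : ↥N),
        v ∈ gam N j ∧ P v ∧ (v : Γ) ∈ C B.1 ∧ cls j v = z} by
    obtain ⟨w, hw, -, hc⟩ := H _ hsup
    rwa [show g = w from Subtype.ext hw.symm]
  intro x hx
  induction hx using Subgroup.iSup_induction' with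
  | hp B x hx =>
    obtain ⟨⟨v, hv, hPv, rfl⟩, hxB⟩ := Subgroup.mem_inf.mp hx
    exact ⟨v, rfl, hv, AddSubgroup.subset_closure ⟨B, v, hv, hPv, hxB, rfl⟩⟩
  | h1 => exact ⟨1, rfl, one_mem _, by rw [cls_one]; exact zero_mem _⟩
  | hmul x y _ _ hx hy =>
    obtain ⟨v, rfl, hv, hcv⟩ := hx
    obtain ⟨w, rfl, hw, hcw⟩ := hy
    exact ⟨v * w, rfl, mul_mem hv hw, by rw [cls_mul hv hw]; exact add_mem hcv hcw⟩

theorem card_cor {k : ℕ} (hk : Nat.card A = p ^ k) :
    Nat.card {B : Subgroup Γ // Cor p A 1 B} ≤ 2 ^ p ^ k := by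
  rw [← hk]
  have h1 : Function.Injective fun B : {B : Subgroup Γ // Cor p A 1 B} => {a : A | (a : Γ) ∈ B.1} :=
    fun B B' e => Subtype.ext (le_antisymm
      (fun x hx => by have := (Set.ext_iff.mp e ⟨x, B.2.1 hx⟩).mp hx; exact this)
      (fun x hx => by have := (Set.ext_iff.mp e ⟨x, B'.2.1 hx⟩).mpr hx; exact this))
  classical
  haveI := Fintype.ofFinite A
  refine (Nat.card_le_card_of_injective _ h1).trans (le_of_eq ?_)
  rw [Nat.card_eq_fintype_card, Fintype.card_set, Nat.card_eq_fintype_card]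

/-- The bound for the class. -/
def clsBound (p k m s : ℕ) : ℕ :=
  nilBound (2 ^ p ^ k) m (nilBound (2 ^ p ^ k) m s + kf (nilBound (2 ^ p ^ k) m s) (p - 1))

/-- **The class is bounded.** -/
theorem class_bound_of_pair [Group.IsNilpotent ↥N] {k m s : ℕ} (hk : Nat.card A = p ^ k) (hpair : PairNil p A N m)
    {a : Γ} (ha : a ∈ A) (hds : DS s (N ⊓ C (zpowers a)) = ⊥) :
    N.lowerCentralSeries (clsBound p k m s) = ⊥ := by
  classical
  haveI := hN
  haveI := Fact.mk h.prime
  haveI : Fintype {B : Subgroup Γ // Cor p A 1 B} := Fintype.ofFinite _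
  let Fam : {B : Subgroup Γ // Cor p A 1 B} → AddSubgroup (LG ↥N) := fun B => clsSpan fun _ g => (g : Γ) ∈ C B.1
  have htop : ∀ x : LG ↥N, x ∈ AddSubgroup.closure {z | ∃ (B : {B : Subgroup Γ // Cor p A 1 B}) (j : ℕ) (g : ↥N),
      g ∈ gam N j ∧ (g : Γ) ∈ C B.1 ∧ cls j g = z} := fun x => by
    induction x using LG.induction with
    | zero => exact zero_mem _
    | hcls j g hg =>
      refine AddSubgroup.closure_mono ?_ (cls_decompose h hN hNX j hg (fun _ => True) trivial
        (fun _ _ _ _ _ _ => trivial) (fun _ _ _ => trivial) (fun _ _ _ _ _ => trivial) trivial)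
      rintro _ ⟨B, v, hv, -, hvB, rfl⟩
      exact ⟨B, j, v, hv, hvB, rfl⟩
    | add c d hc hd => exact add_mem hc hd
  have hFam : ∀ B, Nil (Fam B) m := by
    intro B
    refine le_bot_iff.mp ((actN_le_folds (gs := {z | ∃ (j : ℕ) (g : ↥N), g ∈ gam N j ∧ (g : Γ) ∈ C B.1 ∧ cls j g = z})
      le_rfl ⊤ m).trans ((AddSubgroup.closure_le _).mpr ?_))
    rintro _ ⟨v, -, l, hl, hlg, rfl⟩
    rw [SetLike.mem_coe, AddSubgroup.mem_bot]
    have hv := htop v
    induction hv using AddSubgroup.closure_induction with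
    | mem y hy =>
      obtain ⟨B', j, g, hg, hgB', rfl⟩ := hy
      obtain ⟨J, w, zs, hw, hfold, hlen, hzs, hwe⟩ :=
        fold_cls l j g {z | z ∈ N ⊓ C B.1} hg fun x hx => by
          obtain ⟨i, z, hz, hzB, rfl⟩ := hlg x hx
          exact ⟨i, z, hz, Subgroup.mem_inf.mpr ⟨z.2, hzB⟩, rfl⟩
      have h1 := hpair B.1 B'.1 B.2 B'.2 g (Subgroup.mem_inf.mpr ⟨g.2, hgB'⟩) zs (hlen.trans hl) hzs
      rw [hfold, show w = 1 from Subtype.ext (hwe.trans h1), cls_one]
    | zero => exact fold_zero l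
    | add c d _ _ hc hd => rw [fold_add, hc, hd, add_zero]
    | neg c _ hc =>
      have := fold_add c (-c) l
      rw [add_neg_cancel, fold_zero, hc, zero_add] at this
      exact this.symm
  set E := zpowers a
  have hE : E ≤ A := zpowers_le.mpr ha
  set NE := N ⊓ C E
  have hANE : A ≤ normalizer (NE : Set Γ) := fun b hb =>
    normalizer_inf (normal_le_normalizer hN hb) (h.A_le_normalizer_C hE hb)
  let HC : ℕ → AddSubgroup (LG ↥N) := fun i => clsSpan fun _ g => (g : Γ) ∈ DS i NE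
  have hbridge : ∀ (P : ℕ → ↥N → Prop) (Q : AddSubgroup (LG ↥N)),
      (∀ j g, g ∈ gam N j → P j g → cls j g ∈ Q) → clsSpan P ≤ Q := fun P Q hPQ =>
    (AddSubgroup.closure_le _).mpr (by rintro _ ⟨j, g, hg, hP, rfl⟩; exact hPQ j g hg hP)
  set M1 := nilBound (Fintype.card {B : Subgroup Γ // Cor p A 1 B}) m s
  have hHC : Nil (HC 0) M1 := by
    refine nil_of_spanned Fam hFam s HC ?_ ?_ ?_ ?_
    · refine le_bot_iff.mp (hbridge _ _ fun j g hg hP => ?_)
      rw [hds, Subgroup.mem_bot] at hP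
      rw [show g = 1 from Subtype.ext hP, cls_one]
      exact zero_mem _
    · intro i
      refine hbridge _ _ fun j g hg hP => ?_
      have hAi : A ≤ normalizer ((DS i NE : Subgroup Γ) : Set Γ) := hANE.trans ((fn_DS i).conj NE)
      refine AddSubgroup.closure_mono ?_ (cls_decompose h hN hNX j hg (fun x => x ∈ DS i NE) (one_mem _)
        (fun _ _ _ _ => mul_mem) (fun _ _ => inv_mem)
        (fun b hb x _ hx => (Subgroup.mem_normalizer_iff.mp (hAi hb) _).mp hx) hP)
      rintro _ ⟨B, v, hv, hvD, hvB, rfl⟩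
      exact ⟨B, mem_clsSpan hv hvD, mem_clsSpan hv hvB⟩
    · intro i x hx y hy
      refine lie_closure ?_ hx hy
      rintro _ ⟨j, g, hg, hgd, rfl⟩ _ ⟨l, g', hg', hgd', rfl⟩
      rw [lie_def, bk_cls hg hg']
      exact mem_clsSpan (comm_mem rfl hg hg') (Subgroup.commutator_mem_commutator hgd hgd')
    · intro i x hx y hy
      refine lie_closure ?_ hx hy
      rintro _ ⟨j, g, hg, hgd, rfl⟩ _ ⟨l, g', hg', hgd', rfl⟩
      rw [lie_def, bk_cls hg hg']
      refine mem_clsSpan (comm_mem rfl hg hg') ?_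
      have hn : DS i NE ≤ normalizer ((DS (i + 1) NE : Subgroup Γ) : Set Γ) := fun z hz =>
        normalizer_commutator (Subgroup.le_normalizer hz) (Subgroup.le_normalizer hz)
      exact Subgroup.le_normalizer_iff_commutator_le_left.mp hn (Subgroup.commutator_mem_commutator hgd hgd')
  set α : MulAut ↥N := MulAut.conjNormal a with hαdef
  have hαp : α ^ p = 1 := by rw [hαdef, ← map_pow, h.exp a ha, map_one]
  have hper : ∀ x : LG ↥N, (autL α)^[p] x = x := fun x => by
    induction x using LG.induction with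
    | zero => exact iterate_map_zero (autL α) p
    | hcls n g hg => rw [(autL_iterate α p hg).1, hαp]; rfl
    | add b c hb hc => rw [iterate_map_add, hb, hc]
  have hcopN : ¬ p ∣ Nat.card ↥N := fun hd => h.cop (hd.trans (card_dvd_of_le hNX))
  have hfixed : ∀ x, autL α x = x → x ∈ HC 0 := by
    intro x hx
    rw [← DirectSum.sum_support_of x]
    refine sum_mem fun n _ => ?_
    have h1 := congrArg (fun f : LG ↥N => f n) hx
    simp only [autL, DirectSum.map_apply] at h1
    obtain ⟨g, hg, hga⟩ := mkA_surj (x n)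
    rw [← hga, autA, liftA_mkA hg] at h1
    have h2 := (mkA_eq_iff hg (autA.aut_mem α hg)).mp h1.symm
    obtain ⟨c, hc, hgc⟩ := CfsgLib.AlperinBound.exists_fixed_in_coset (p := p) hαp
      (fun z hz => autA.aut_mem α hz)
      (fun hd => hcopN (hd.trans (Subgroup.card_subgroup_dvd_card _))) h2
    have hcg : c ∈ gam N n := by
      rw [show c = g * (g⁻¹ * c) by rw [mul_inv_cancel_left]]
      exact mul_mem hg (Subgroup.lowerCentralSeries_antitone ⊤ (Nat.le_succ n) hgc)
    rw [← hga, show mkA n g = mkA n c from (mkA_eq_iff hg hcg).mpr hgc]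
    refine mem_clsSpan hcg (Subgroup.mem_inf.mpr ⟨c.2, ?_⟩)
    have hac : a * (c : Γ) * a⁻¹ = c := by
      have := congrArg Subtype.val hc
      rwa [hαdef, MulAut.conjNormal_apply] at this
    show (c : Γ) ∈ centralizer ((zpowers a : Subgroup Γ) : Set Γ)
    rw [zpowers_eq_closure, centralizer_closure]
    exact mem_centralizer_singleton_iff.mpr (mul_inv_eq_iff_eq_mul.mp hac).symm
  have htf : ∀ x : LG ↥N, p • x = 0 → x = 0 :=
    torsion_free (((h.prime.coprime_iff_not_dvd).mpr hcopN).symm)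
  set D := M1 + kf M1 (p - 1) with hDdef
  have hder : derL (LG ↥N) D = ⊥ := derL_bot (autL α) (autL_lie α) hper htf hfixed hHC
  have hautder : ∀ (i : ℕ) (b : MulAut ↥N), ∀ x ∈ derL (LG ↥N) i, autL b x ∈ derL (LG ↥N) i := by
    intro i b
    induction i with
    | zero => exact fun _ _ => AddSubgroup.mem_top _
    | succ i ih =>
      intro x hx
      induction hx using AddSubgroup.closure_induction with
      | mem w hw =>
        obtain ⟨u, hu, v, hv, rfl⟩ := hw
        rw [autL_lie]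
        exact AddSubgroup.subset_closure ⟨_, ih u hu, _, ih v hv, rfl⟩
      | zero => rw [map_zero]; exact zero_mem _
      | add u v _ _ hu hv => rw [map_add]; exact add_mem hu hv
      | neg u _ hu => rw [map_neg]; exact neg_mem hu
  have hantider : ∀ i, derL (LG ↥N) (i + 1) ≤ derL (LG ↥N) i := by
    intro i
    induction i with
    | zero => exact le_top
    | succ i ih =>
      exact (AddSubgroup.closure_le _).mpr (by
        rintro _ ⟨u, hu, v, hv, rfl⟩
        exact AddSubgroup.subset_closure ⟨u, ih hu, v, ih hv, rfl⟩)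
  have hall : Nil (derL (LG ↥N) 0) (nilBound (Fintype.card {B : Subgroup Γ // Cor p A 1 B}) m D) := by
    refine nil_of_spanned Fam hFam D (derL (LG ↥N)) hder ?_
      (fun i x hx y hy => AddSubgroup.subset_closure ⟨x, hx, y, hy, rfl⟩) ?_
    · intro i
      refine (derL_hom i).trans (hbridge _ _ fun j g hg hP => ?_)
      have hne : ∀ (v : ↥N), v ∈ gam N j → ((∃ v' : ↥N, (v' : Γ) = (v : Γ) ∧ cls j v' ∈ derL (LG ↥N) i) ↔
          cls j v ∈ derL (LG ↥N) i) := fun v _ =>
        ⟨fun ⟨v', e, hv'⟩ => (Subtype.ext e : v' = v) ▸ hv', fun hv' => ⟨v, rfl, hv'⟩⟩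
      refine AddSubgroup.closure_mono ?_ (cls_decompose h hN hNX j hg
        (fun x => ∃ v' : ↥N, (v' : Γ) = x ∧ cls j v' ∈ derL (LG ↥N) i)
        ⟨1, rfl, by rw [cls_one]; exact zero_mem _⟩ ?_ ?_ ?_ ⟨g, rfl, hP⟩)
      · rintro _ ⟨B, v, hv, hvD, hvB, rfl⟩
        exact ⟨B, (hne v hv).mp hvD, mem_clsSpan hv hvB⟩
      · intro x y hx hy hPx hPy
        exact ⟨x * y, rfl, by rw [cls_mul hx hy]; exact add_mem ((hne x hx).mp hPx) ((hne y hy).mp hPy)⟩
      · intro x hx hPx
        exact ⟨x⁻¹, rfl, by rw [cls_inv hx]; exact neg_mem ((hne x hx).mp hPx)⟩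
      · intro b _ x hx hPx
        refine ⟨MulAut.conjNormal b x, MulAut.conjNormal_apply b x, ?_⟩
        rw [← autL_cls _ hx]
        exact hautder i _ _ ((hne x hx).mp hPx)
    · intro i x hx y hy
      cases i with
      | zero => exact AddSubgroup.subset_closure ⟨x, AddSubgroup.mem_top _, y, AddSubgroup.mem_top _, rfl⟩
      | succ i => exact AddSubgroup.subset_closure ⟨x, hantider (i + 1) hx, y, hy, rfl⟩
  have hle : nilBound (Fintype.card {B : Subgroup Γ // Cor p A 1 B}) m D ≤ clsBound p k m s := by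
    have hc : Fintype.card {B : Subgroup Γ // Cor p A 1 B} ≤ 2 ^ p ^ k := by
      rw [← Nat.card_eq_fintype_card]; exact card_cor h hN hNX hk
    have hM : M1 ≤ nilBound (2 ^ p ^ k) m s := Nat.pow_le_pow_left (Nat.add_le_add_right (Nat.mul_le_mul_right m hc) 1) s
    have hkf : ∀ q m m', m ≤ m' → kf m q ≤ kf m' q := by
      intro q
      induction q with
      | zero => exact fun _ _ _ => le_rfl
      | succ q ih =>
        intro m m' hmm
        exact Nat.add_le_add (ih m m' hmm) (Nat.mul_le_mul hmm (Nat.add_le_add_right (ih m m' hmm) 1))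
    refine le_trans (Nat.pow_le_pow_right (Nat.succ_pos _) (Nat.add_le_add hM (hkf _ _ _ hM))) ?_
    exact Nat.pow_le_pow_left (Nat.add_le_add_right (Nat.mul_le_mul_right m hc) 1) _
  have hlcs : lcs (LG ↥N) (nilBound (Fintype.card {B : Subgroup Γ // Cor p A 1 B}) m D) = ⊥ :=
    le_bot_iff.mp ((lcs_le_actN _).trans hall.le)
  have hfin := class_le hlcs
  refine le_bot_iff.mp ((N.lowerCentralSeries_antitone hle).trans (le_of_eq ?_))
  rw [← Subgroup.top_subtype_lowerCentralSeries, hfin, Subgroup.map_bot]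

end CfsgLib.CentClass
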