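import Mathlib
import Cfsg.Agent.Lib.CentClass.Gen

/-!
The class of a join of normal nilpotent subgroups.
-/

set_option autoImplicit false

namespace CfsgLib.CentClass

open Subgroup
open scoped commutatorElement

universe u
variable {G : Type u} [Group G] [Finite G]

theorem map_lcs {K : Type*} [Group K] (f : G →* K) (H : Subgroup G) :
    ∀ i, (H.lowerCentralSeries i).map f = (H.map f).lowerCentralSeries i
  | 0 => by rw [Subgroup.lowerCentralSeries_zero, Subgroup.lowerCentralSeries_zero]
  | i + 1 => by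
    rw [Subgroup.lowerCentralSeries_succ, Subgroup.lowerCentralSeries_succ, Subgroup.map_commutator, map_lcs f H i]

theorem comm_sup_le {H K₁ K₂ T : Subgroup G} [T.Normal] (h1 : ⁅H, K₁⁆ ≤ T) (h2 : ⁅H, K₂⁆ ≤ T) :
    ⁅H, K₁ ⊔ K₂⁆ ≤ T := by
  set π := QuotientGroup.mk' T
  have hb : ∀ L : Subgroup G, ⁅H, L⁆ ≤ T ↔ L.map π ≤ centralizer (H.map π : Set (G ⧸ T)) := fun L => by
    rw [← Subgroup.commutator_eq_bot_iff_le_centralizer, ← Subgroup.map_commutator, Subgroup.map_eq_bot_iff,
      QuotientGroup.ker_mk', Subgroup.commutator_comm]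
  rw [hb, Subgroup.map_sup]
  exact sup_le ((hb K₁).mp h1) ((hb K₂).mp h2)

theorem comm_iSup_le {ι : Sort*} {H : ι → Subgroup G} {K T : Subgroup G} [T.Normal] (h : ∀ i, ⁅H i, K⁆ ≤ T) :
    ⁅⨆ i, H i, K⁆ ≤ T := by
  set π := QuotientGroup.mk' T
  have hb : ∀ L : Subgroup G, ⁅L, K⁆ ≤ T ↔ L.map π ≤ centralizer (K.map π : Set (G ⧸ T)) := fun L => by
    rw [← Subgroup.commutator_eq_bot_iff_le_centralizer, ← Subgroup.map_commutator, Subgroup.map_eq_bot_iff,
      QuotientGroup.ker_mk']
  rw [hb, Subgroup.map_iSup]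
  exact iSup_le fun i => (hb _).mp (h i)

/-- Fitting's theorem with the bound on the class. -/
theorem lcs_sup_eq_bot {M N : Subgroup G} [M.Normal] [N.Normal] {c e : ℕ}
    (hM : M.lowerCentralSeries c = ⊥) (hN : N.lowerCentralSeries e = ⊥) :
    (M ⊔ N).lowerCentralSeries (c + e) = ⊥ := by
  set P : ℕ → Subgroup G := fun i => if i = 0 then M ⊔ N else M.lowerCentralSeries (i - 1) with hP
  set Q : ℕ → Subgroup G := fun i => if i = 0 then M ⊔ N else N.lowerCentralSeries (i - 1) with hQ
  haveI : ∀ i, (P i).Normal := fun i => by simp only [hP]; split_ifs <;> infer_instance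
  haveI : ∀ i, (Q i).Normal := fun i => by simp only [hQ]; split_ifs <;> infer_instance
  set T : ℕ → Subgroup G := fun n => ⨆ ij : {ij : ℕ × ℕ // ij.1 + ij.2 = n + 1}, P ij.1.1 ⊓ Q ij.1.2 with hT
  haveI : ∀ n, (T n).Normal := fun n => by
    rw [← Subgroup.normalizer_eq_top_iff, eq_top_iff]
    intro g _
    exact normalizer_iSup_le _ fun ij => normalizer_inf (normal_le_normalizer (K := ⊤) inferInstance (Subgroup.mem_top g))
      (normal_le_normalizer (K := ⊤) inferInstance (Subgroup.mem_top g))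
  have hPs : ∀ i, ⁅P i, M⁆ ≤ P (i + 1) := fun i => by
    rcases i with _ | i
    · simp only [hP, if_pos, Nat.zero_add, Nat.one_ne_zero, if_false, Nat.sub_self, Subgroup.lowerCentralSeries_zero]
      exact Subgroup.commutator_le_right _ M
    · simp only [hP, Nat.add_eq_zero_iff, Nat.one_ne_zero, and_false, if_false, Nat.add_sub_cancel]
      exact le_of_eq (Subgroup.lowerCentralSeries_succ M i).symm
  have hQs : ∀ i, ⁅Q i, N⁆ ≤ Q (i + 1) := fun i => by
    rcases i with _ | i
    · simp only [hQ, if_pos, Nat.zero_add, Nat.one_ne_zero, if_false, Nat.sub_self, Subgroup.lowerCentralSeries_zero]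
      exact Subgroup.commutator_le_right _ N
    · simp only [hQ, Nat.add_eq_zero_iff, Nat.one_ne_zero, and_false, if_false, Nat.add_sub_cancel]
      exact le_of_eq (Subgroup.lowerCentralSeries_succ N i).symm
  have key : ∀ n, (M ⊔ N).lowerCentralSeries n ≤ T n := by
    intro n
    induction n with
    | zero =>
      rw [Subgroup.lowerCentralSeries_zero]
      refine sup_le ?_ ?_
      · refine le_iSup_of_le (⟨(1, 0), rfl⟩ : {ij : ℕ × ℕ // ij.1 + ij.2 = 0 + 1}) ?_
        simp [hP, hQ]
      · refine le_iSup_of_le (⟨(0, 1), rfl⟩ : {ij : ℕ × ℕ // ij.1 + ij.2 = 0 + 1}) ?_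
        simp [hP, hQ]
    | succ n ih =>
      rw [Subgroup.lowerCentralSeries_succ]
      refine (Subgroup.commutator_mono ih le_rfl).trans (comm_iSup_le fun ij => comm_sup_le ?_ ?_)
      · refine le_trans ?_ (le_iSup _ (⟨(ij.1.1 + 1, ij.1.2), by have := ij.2; omega⟩ :
          {ij : ℕ × ℕ // ij.1 + ij.2 = n + 1 + 1}))
        exact le_inf ((Subgroup.commutator_mono inf_le_left le_rfl).trans (hPs _))
          ((Subgroup.commutator_mono inf_le_right le_rfl).trans (Subgroup.commutator_le_left (Q ij.1.2) M))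
      · refine le_trans ?_ (le_iSup _ (⟨(ij.1.1, ij.1.2 + 1), by have := ij.2; omega⟩ :
          {ij : ℕ × ℕ // ij.1 + ij.2 = n + 1 + 1}))
        exact le_inf ((Subgroup.commutator_mono inf_le_left le_rfl).trans (Subgroup.commutator_le_left (P ij.1.1) N))
          ((Subgroup.commutator_mono inf_le_right le_rfl).trans (hQs _))
  refine le_bot_iff.mp ((key _).trans (iSup_le fun ij => ?_))
  have := ij.2
  rcases Nat.lt_or_ge c ij.1.1 with h | h
  · refine inf_le_left.trans ?_
    simp only [hP, if_neg (by omega : ij.1.1 ≠ 0)]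
    exact (M.lowerCentralSeries_antitone (by omega)).trans hM.le
  · refine inf_le_right.trans ?_
    simp only [hQ, if_neg (by omega : ij.1.2 ≠ 0)]
    exact (N.lowerCentralSeries_antitone (by omega)).trans hN.le

theorem lcs_iSup_eq_bot {ι : Type*} [Fintype ι] (F : ι → Subgroup G) [∀ i, (F i).Normal] {c : ℕ}
    (h : ∀ i, (F i).lowerCentralSeries c = ⊥) : (⨆ i, F i).lowerCentralSeries (Fintype.card ι * c) = ⊥ := by
  classical
  suffices H : ∀ s : Finset ι, (s.sup F).Normal ∧ (s.sup F).lowerCentralSeries (s.card * c) = ⊥ by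
    have := (H Finset.univ).2
    rwa [Finset.sup_univ_eq_iSup, Finset.card_univ] at this
  intro s
  induction s using Finset.induction_on with
  | empty => exact ⟨by rw [Finset.sup_empty]; infer_instance, by simp⟩
  | @insert j s hj ih =>
    haveI := ih.1
    rw [Finset.sup_insert, Finset.card_insert_of_notMem hj, Nat.succ_mul, Nat.add_comm]
    exact ⟨inferInstance, lcs_sup_eq_bot (h j) ih.2⟩

theorem lcs_iSup_eq_bot_of_le {ι : Type*} [Fintype ι] (F : ι → Subgroup G) (Y : Subgroup G) (hY : ∀ i, F i ≤ Y)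
    (hn : ∀ i, Y ≤ normalizer (F i : Set G)) {c : ℕ} (h : ∀ i, (F i).lowerCentralSeries c = ⊥) :
    (⨆ i, F i).lowerCentralSeries (Fintype.card ι * c) = ⊥ := by
  haveI : ∀ i, ((F i).subgroupOf Y).Normal := fun i =>
    (Subgroup.normal_subgroupOf_iff_le_normalizer (hY i)).mpr (hn i)
  have h1 := lcs_iSup_eq_bot (fun i => (F i).subgroupOf Y) (c := c) fun i => by
    rw [← Subgroup.map_eq_bot_iff_of_injective _ Y.subtype_injective, map_lcs, Subgroup.map_subgroupOf_eq_of_le (hY i), h i]
  rw [← Subgroup.map_eq_bot_iff_of_injective _ Y.subtype_injective, map_lcs, Subgroup.map_iSup] at h1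
  simp only [Subgroup.map_subgroupOf_eq_of_le (hY _)] at h1
  exact h1

end CfsgLib.CentClass
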