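import Cfsg.Agent.Lib.LieFpf.Graded

/-!
Kreknin's theorem for a cyclic grading whose component of degree zero acts nilpotently: the ring is solvable
of bounded derived length.
-/

set_option autoImplicit false

namespace CfsgLib.CentClass

open CfsgLib.LieFpf

variable {V : Type*} [LieRing V] {n : ℕ}

/-- A family closed under brackets. -/
def Closed (S : ZMod n → AddSubgroup V) : Prop := ∀ a b, ∀ x ∈ S a, ∀ y ∈ S b, ⁅x, y⁆ ∈ S (a + b)

theorem Closed.br_le {S : ZMod n → AddSubgroup V} (hS : Closed S) : br S S ≤ S := LieFpf.br_le hS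

theorem Closed.der {S : ZMod n → AddSubgroup V} (hS : Closed S) : Closed (der S) :=
  fun _ _ _ hx _ hy => mem_br (hS.br_le _ hx) (hS.br_le _ hy)

theorem Closed.der_iterate {S : ZMod n → AddSubgroup V} (hS : Closed S) (m : ℕ) :
    Closed (LieFpf.der^[m] S) ∧ LieFpf.der^[m] S ≤ S := by
  induction m with
  | zero => exact ⟨hS, le_rfl⟩
  | succ m ih =>
    rw [Function.iterate_succ_apply']
    exact ⟨ih.1.der, ih.1.br_le.trans ih.2⟩

theorem der_mono : Monotone (LieFpf.der (V := V) (n := n)) := fun _ _ h => br_mono h h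

/-- The depth filtration by brackets with degree zero. -/
def dep (S : ZMod n → AddSubgroup V) : ℕ → ZMod n → AddSubgroup V
  | 0 => S
  | i + 1 => fun s => AddSubgroup.closure {z | ∃ x ∈ dep S i s, ∃ c ∈ S 0, ⁅x, c⁆ = z}

theorem dep_mono {S S' : ZMod n → AddSubgroup V} (h : S ≤ S') : ∀ i, dep S i ≤ dep S' i
  | 0 => h
  | i + 1 => fun s => AddSubgroup.closure_mono (by
      rintro _ ⟨x, hx, c, hc, rfl⟩
      exact ⟨x, dep_mono h i s hx, c, h 0 hc, rfl⟩)

theorem dep_le {S : ZMod n → AddSubgroup V} (hS : Closed S) : ∀ i, dep S i ≤ S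
  | 0 => le_rfl
  | i + 1 => fun s => (AddSubgroup.closure_le _).mpr (by
      rintro _ ⟨x, hx, c, hc, rfl⟩
      have := hS s 0 x (dep_le hS i s hx) c hc
      rwa [add_zero] at this)

/-- Left-normed products of generators. -/
inductive GenOf (G : ZMod n → AddSubgroup V) : ZMod n → V → Prop
  | base (s : ZMod n) (x : V) (hx : x ∈ G s) : GenOf G s x
  | step (a j : ZMod n) (x l : V) (hx : GenOf G a x) (hl : l ∈ G j) : GenOf G (a + j) ⁅x, l⁆

/-- The subring generated by a family. -/
def alg (G : ZMod n → AddSubgroup V) : ZMod n → AddSubgroup V := fun s =>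
  AddSubgroup.closure {x | GenOf G s x}

theorem le_alg (G : ZMod n → AddSubgroup V) : G ≤ alg G :=
  fun s x hx => AddSubgroup.subset_closure (GenOf.base s x hx)

theorem alg_step {G : ZMod n → AddSubgroup V} {a j : ZMod n} {x l : V} (hx : x ∈ alg G a) (hl : l ∈ G j) :
    ⁅x, l⁆ ∈ alg G (a + j) :=
  br_left_induction rfl (fun u hu => AddSubgroup.subset_closure (GenOf.step a j u l hu hl)) hx

theorem alg_lie_gen {G : ZMod n → AddSubgroup V} {b : ZMod n} {y : V} (hy : GenOf G b y) :
    ∀ (a : ZMod n) (x : V), x ∈ alg G a → ⁅x, y⁆ ∈ alg G (a + b) := by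
  induction hy with
  | base s x hx => intro a u hu; exact alg_step hu hx
  | step c j y l _ hl ih =>
    intro a x hx
    rw [leibniz_lie x y l, ← lie_skew y ⁅x, l⁆, ← sub_eq_add_neg, ← add_assoc]
    refine sub_mem (alg_step (ih a x hx) hl) ?_
    rw [add_right_comm]
    exact ih (a + j) _ (alg_step hx hl)

theorem alg_closed (G : ZMod n → AddSubgroup V) : Closed (alg G) := by
  intro a b x hx y hy
  induction hy using AddSubgroup.closure_induction with
  | mem u hu => exact alg_lie_gen hu a x hx
  | zero => rw [lie_zero]; exact zero_mem _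
  | add u v _ _ hu hv => rw [lie_add]; exact add_mem hu hv
  | neg u _ hu => rw [lie_neg]; exact neg_mem hu

theorem alg_le {G T : ZMod n → AddSubgroup V} (hT : Closed T) (h : G ≤ T) : alg G ≤ T := fun s =>
  (AddSubgroup.closure_le _).mpr fun x (hx : GenOf G s x) => by
    induction hx with
    | base s x hx => exact h s hx
    | step a j x l _ hl ih => exact hT a j x ih l (h j hl)

/-- The components of degree `0` and of degree greater than `k`. -/
def Gk (S : ZMod n → AddSubgroup V) (k : ℕ) (s : ZMod n) : AddSubgroup V :=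
  if s.val = 0 ∨ k < s.val then S s else ⊥

/-- Those, with depth `i` required in degree `k + 1`. -/
def Gi (S : ZMod n → AddSubgroup V) (k i : ℕ) (s : ZMod n) : AddSubgroup V :=
  if s.val = k + 1 then dep S i s else Gk S (k + 1) s

theorem Gk_le_Gi_zero (S : ZMod n → AddSubgroup V) (k : ℕ) : Gk S k ≤ Gi S k 0 := fun s => by
  rw [Gi, Gk, Gk]
  split_ifs with h1 h2 h3 <;> first | exact le_rfl | exact bot_le | omega

variable [NeZero n]

theorem mem_Gi_zero {S : ZMod n → AddSubgroup V} (k i : ℕ) {c : V} (hc : c ∈ S 0) : c ∈ Gi S k i 0 := by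
  rw [Gi, if_neg (by rw [ZMod.val_zero]; omega), Gk, if_pos (Or.inl ZMod.val_zero)]
  exact hc

theorem mem_Gi_gt {S : ZMod n → AddSubgroup V} (k i : ℕ) {s : ZMod n} (hs : k + 1 < s.val) {x : V} (hx : x ∈ S s) :
    x ∈ Gi S k i s := by
  rw [Gi, if_neg (by omega), Gk, if_pos (Or.inr hs)]
  exact hx

theorem mem_Gi_eq {S : ZMod n → AddSubgroup V} (k i : ℕ) {s : ZMod n} (hs : s.val = k + 1) {x : V}
    (hx : x ∈ dep S i s) : x ∈ Gi S k i s := by
  rw [Gi, if_pos hs]
  exact hx

theorem Gi_le {S : ZMod n → AddSubgroup V} (hS : Closed S) (k i : ℕ) : Gi S k i ≤ S := fun s => by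
  rw [Gi, Gk]
  split_ifs
  exacts [dep_le hS i s, le_rfl, bot_le]

/-- A product in degree `k + 1` lies one step deeper. -/
theorem step_mem {S : ZMod n → AddSubgroup V} (hS : Closed S) (k i : ℕ) {a : ZMod n} {z : V}
    (hz : GenOf (Gi S k i) a z) :
    ∀ (j : ZMod n) (l : V), l ∈ Gi S k i j → (a + j).val = k + 1 → ⁅z, l⁆ ∈ alg (Gi S k (i + 1)) (a + j) := by
  have hsub : ∀ {s : ZMod n} {x : V}, GenOf (Gi S k i) s x → x ∈ S s := fun hx =>
    alg_le hS (Gi_le hS k i) _ (AddSubgroup.subset_closure hx)
  induction hz with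
  | base s x hx =>
    intro j l hl hsj
    have hxS : x ∈ S s := Gi_le hS k i s hx
    have := s.val_lt
    have := j.val_lt
    rcases eq_or_ne j.val 0 with hj | hj
    · rw [ZMod.val_eq_zero] at hj
      subst hj
      rw [add_zero] at hsj ⊢
      rw [Gi, if_pos hsj] at hx
      refine le_alg _ _ (mem_Gi_eq k (i + 1) hsj ?_)
      exact AddSubgroup.subset_closure ⟨x, hx, l, Gi_le hS k i 0 hl, rfl⟩
    rcases eq_or_ne j.val (k + 1) with hj1 | hj1
    · rw [Gi, if_pos hj1] at hl
      have hs0 : s = 0 := (ZMod.val_eq_zero s).mp (by rcases val_cases s j with h | h <;> omega)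
      subst hs0
      rw [zero_add, ← lie_skew]
      exact neg_mem (le_alg _ _ (mem_Gi_eq k (i + 1) hj1 (AddSubgroup.subset_closure ⟨l, hl, x, hxS, rfl⟩)))
    rcases lt_or_ge (k + 1) j.val with hj2 | hj2
    · have hsv : k + 1 < s.val := by rcases val_cases s j with h | h <;> omega
      exact alg_closed _ s j x (le_alg _ _ (mem_Gi_gt k _ hsv hxS)) l (le_alg _ _ (mem_Gi_gt k _ hj2 (Gi_le hS k i j hl)))
    · rw [Gi, if_neg hj1, Gk, if_neg (by omega), AddSubgroup.mem_bot] at hl
      rw [hl, lie_zero]
      exact zero_mem _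
  | step a' j' u l' hu hl' ih =>
    intro j l hl hsj
    have hxS : ⁅u, l'⁆ ∈ S (a' + j') := hS a' j' u (hsub hu) l' (Gi_le hS k i j' hl')
    have := (a' + j').val_lt
    have := j.val_lt
    rcases eq_or_ne j.val 0 with hj | hj
    · rw [ZMod.val_eq_zero] at hj
      subst hj
      rw [add_zero] at hsj
      exact alg_step (ih j' l' hl' hsj) (mem_Gi_zero k (i + 1) (Gi_le hS k i 0 hl))
    rcases eq_or_ne j.val (k + 1) with hj1 | hj1
    · rw [Gi, if_pos hj1] at hl
      have hs0 : a' + j' = 0 := (ZMod.val_eq_zero _).mp (by rcases val_cases (a' + j') j with h | h <;> omega)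
      rw [hs0] at hxS ⊢
      rw [zero_add, ← lie_skew]
      exact neg_mem (le_alg _ _ (mem_Gi_eq k (i + 1) hj1 (AddSubgroup.subset_closure ⟨l, hl, _, hxS, rfl⟩)))
    rcases lt_or_ge (k + 1) j.val with hj2 | hj2
    · have hsv : k + 1 < (a' + j').val := by rcases val_cases (a' + j') j with h | h <;> omega
      exact alg_closed _ _ j _ (le_alg _ _ (mem_Gi_gt k _ hsv hxS)) l
        (le_alg _ _ (mem_Gi_gt k _ hj2 (Gi_le hS k i j hl)))
    · rw [Gi, if_neg hj1, Gk, if_neg (by omega), AddSubgroup.mem_bot] at hl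
      rw [hl, lie_zero]
      exact zero_mem _

theorem prod_mem_next {S : ZMod n → AddSubgroup V} (hS : Closed S) (k i : ℕ) {b : ZMod n} {y : V}
    (hy : GenOf (Gi S k i) b y) :
    ∀ (a : ZMod n) (x : V), x ∈ alg (Gi S k i) a → (a + b).val = k + 1 →
      ⁅x, y⁆ ∈ alg (Gi S k (i + 1)) (a + b) := by
  induction hy with
  | base s x hx =>
    intro a u hu hab
    exact br_left_induction rfl (fun w hw => step_mem hS k i hw s x hx hab) hu
  | step c j y l hy hl ih =>
    intro a x hx hab
    rw [leibniz_lie x y l, ← lie_skew y ⁅x, l⁆, ← sub_eq_add_neg, ← add_assoc]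
    rw [← add_assoc] at hab
    refine sub_mem ?_ ?_
    · refine br_left_induction rfl (fun w hw => step_mem hS k i hw j l hl hab)
        (alg_closed _ a c x hx y (AddSubgroup.subset_closure hy))
    · rw [add_right_comm] at hab ⊢
      exact ih (a + j) _ (alg_step hx hl) hab

/-- The number of derivations needed. -/
def kf (m : ℕ) : ℕ → ℕ
  | 0 => 0
  | k + 1 => kf m k + m * (kf m k + 1)

theorem kreknin_depth {m : ℕ} : ∀ k, k < n → ∀ S : ZMod n → AddSubgroup V, Closed S → dep S m = ⊥ →
    LieFpf.der^[kf m k] S ≤ alg (Gk S k) := by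
  intro k
  induction k with
  | zero =>
    intro _ S _ _ s x hx
    refine le_alg _ s ?_
    rw [Gk, if_pos (Nat.eq_zero_or_pos _)]
    exact hx
  | succ k ih =>
    intro hk S hS hm
    have key : ∀ i, LieFpf.der^[kf m k + i * (kf m k + 1)] S ≤ alg (Gi S k i) := by
      intro i
      induction i with
      | zero =>
        rw [Nat.zero_mul, Nat.add_zero]
        exact (ih (by omega) S hS hm).trans (alg_le (alg_closed _) ((Gk_le_Gi_zero S k).trans (le_alg _)))
      | succ i ihi =>
        obtain ⟨hS', hS'le⟩ := hS.der_iterate (kf m k + i * (kf m k + 1))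
        set S' := LieFpf.der^[kf m k + i * (kf m k + 1)] S
        have hD : Closed (LieFpf.der S') := hS'.der
        have hDle : LieFpf.der S' ≤ S := hS'.br_le.trans hS'le
        rw [show kf m k + (i + 1) * (kf m k + 1) = kf m k + (kf m k + i * (kf m k + 1) + 1) by ring,
          Function.iterate_add_apply, Function.iterate_succ_apply']
        refine (ih (by omega) _ hD (le_bot_iff.mp ((dep_mono hDle m).trans hm.le))).trans
          (alg_le (alg_closed _) fun s x hx => ?_)
        rw [Gk] at hx
        split_ifs at hx with h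
        · rcases h with h | h
          · rw [(ZMod.val_eq_zero s).mp h] at hx ⊢
            exact le_alg _ _ (mem_Gi_zero k _ (hDle 0 hx))
          rcases lt_or_ge (k + 1) s.val with h1 | h1
          · exact le_alg _ _ (mem_Gi_gt k _ h1 (hDle s hx))
          · refine (AddSubgroup.closure_le _).mpr ?_ hx
            rintro _ ⟨a, b, rfl, u, hu, v, hv, rfl⟩
            have hv' := ihi b hv
            clear hv
            induction hv' using AddSubgroup.closure_induction with
            | mem w hw => exact prod_mem_next hS k i hw a u (ihi a hu) (by omega)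
            | zero => rw [lie_zero]; exact zero_mem _
            | add w w' _ _ hw hw' => rw [lie_add]; exact add_mem hw hw'
            | neg w _ hw => rw [lie_neg]; exact neg_mem hw
        · rw [AddSubgroup.mem_bot] at hx
          rw [hx]
          exact zero_mem _
    refine (key m).trans (alg_le (alg_closed _) fun s => ?_)
    rw [Gi]
    split_ifs
    · rw [show dep S m s = ⊥ from congrFun hm s]
      exact bot_le
    · exact le_alg _ s

/-- **Solvability when degree zero acts nilpotently.** -/
theorem solvable_of_depth {m : ℕ} {S : ZMod n → AddSubgroup V} (hS : Closed S) (hm : dep S m = ⊥) :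
    LieFpf.der^[m + kf m (n - 1)] S = ⊥ := by
  have hn : n - 1 < n := Nat.sub_lt (Nat.pos_of_ne_zero (NeZero.ne n)) one_pos
  have h := kreknin_depth (n - 1) hn S hS hm
  let T : ℕ → ZMod n → AddSubgroup V := fun j s => if s = 0 then dep S j 0 else ⊥
  have h0 : alg (Gk S (n - 1)) ≤ T 0 := by
    refine alg_le ?_ fun s x hx => ?_
    · intro a b x hx y hy
      simp only [T] at hx hy ⊢
      split_ifs at hx with ha
      · split_ifs at hy with hb
        · subst ha hb
          rw [if_pos (add_zero (0 : ZMod n))]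
          have := hS 0 0 x hx y hy
          rwa [add_zero] at this
        · rw [AddSubgroup.mem_bot] at hy; rw [hy, lie_zero]; exact zero_mem _
      · rw [AddSubgroup.mem_bot] at hx; rw [hx, zero_lie]; exact zero_mem _
    · rw [Gk] at hx
      have := s.val_lt
      split_ifs at hx with hs
      · rw [(ZMod.val_eq_zero s).mp (by omega)] at hx ⊢
        simpa [T, dep] using hx
      · rw [AddSubgroup.mem_bot] at hx; rw [hx]; exact zero_mem _
  have hj : ∀ j, LieFpf.der^[j + kf m (n - 1)] S ≤ T j := by
    intro j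
    induction j with
    | zero => rw [Nat.zero_add]; exact h.trans h0
    | succ j ih =>
      rw [Nat.add_right_comm, Function.iterate_succ_apply']
      refine LieFpf.br_le fun a b x hx y hy => ?_
      have hx' := ih a hx
      have hy' : y ∈ T 0 b := (h.trans h0) b
        (by
          rw [Function.iterate_add_apply] at hy
          exact ((hS.der_iterate (kf m (n - 1))).1.der_iterate j).2 b hy)
      simp only [T] at hx' hy' ⊢
      split_ifs at hx' with ha
      · split_ifs at hy' with hb
        · subst ha hb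
          rw [if_pos (add_zero (0 : ZMod n))]
          exact AddSubgroup.subset_closure ⟨x, hx', y, hy', rfl⟩
        · rw [AddSubgroup.mem_bot] at hy'; rw [hy', lie_zero]; exact zero_mem _
      · rw [AddSubgroup.mem_bot] at hx'; rw [hx', zero_lie]; exact zero_mem _
  refine le_bot_iff.mp ((hj m).trans fun s => ?_)
  simp only [T]
  split_ifs
  · exact (congrFun hm 0).le
  · exact bot_le

end CfsgLib.CentClass
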