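import Cfsg.Agent.Lib.CentClass.Special

/-!
Fixed points in a bilinear layer `W / W0` spanned by commutators of fixed points.
-/

set_option autoImplicit false

namespace CfsgLib.CentClass

open Subgroup
open scoped commutatorElement

universe u v
variable {Γ : Type u} [Group Γ] [Finite Γ]

/-- A homomorphism of `W` onto a commutative group, with kernel `R'`, compatible with `A`. -/
structure Proj (A W R' : Subgroup Γ) (Q : Type v) [CommGroup Q] where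
  pe : Γ → Q
  mul : ∀ x ∈ W, ∀ y ∈ W, pe (x * y) = pe x * pe y
  ker : ∀ x ∈ W, pe x = 1 ↔ x ∈ R'
  q : Γ → (Q →* Q)
  hq : ∀ a ∈ A, ∀ x ∈ W, pe (a * x * a⁻¹) = q a (pe x)

namespace Proj

variable {A W R' : Subgroup Γ} {Q : Type v} [CommGroup Q] (P : Proj A W R' Q)

/-- The elements of a subgroup. -/
noncomputable def fs (E : Subgroup Γ) : Finset Γ := (Set.toFinite (E : Set Γ)).toFinset

theorem mem_fs {E : Subgroup Γ} {x : Γ} : x ∈ fs E ↔ x ∈ E := Set.Finite.mem_toFinset _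

theorem card_fs (E : Subgroup Γ) : (fs E).card = Nat.card E :=
  (Nat.card_eq_card_finite_toFinset _).symm

theorem pe_one : P.pe 1 = 1 := (P.ker 1 (one_mem W)).mpr (one_mem R')

theorem pe_inv {x : Γ} (hx : x ∈ W) : P.pe x⁻¹ = (P.pe x)⁻¹ :=
  eq_inv_of_mul_eq_one_left (by rw [← P.mul _ (inv_mem hx) _ hx, inv_mul_cancel, P.pe_one])

theorem pe_pow {x : Γ} (hx : x ∈ W) : ∀ n : ℕ, P.pe (x ^ n) = P.pe x ^ n
  | 0 => by rw [pow_zero, pow_zero, P.pe_one]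
  | n + 1 => by rw [pow_succ, P.mul _ (pow_mem hx n) _ hx, pe_pow hx n, pow_succ]

theorem pe_eq {x y : Γ} (hx : x ∈ W) (hy : y ∈ W) (h : x⁻¹ * y ∈ R') : P.pe x = P.pe y := by
  have h1 := (P.ker _ (mul_mem (inv_mem hx) hy)).mpr h
  rw [P.mul _ (inv_mem hx) _ hy, P.pe_inv hx, inv_mul_eq_one] at h1
  exact h1

theorem pow_card {x : Γ} (hx : x ∈ W) : P.pe x ^ Nat.card W = 1 := by
  rw [← P.pe_pow hx, show x ^ Nat.card W = 1 from congrArg Subtype.val (pow_card_eq_one' (x := (⟨x, hx⟩ : W))),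
    P.pe_one]

theorem eq_one_of_pow {v : Q} {n m : ℕ} (hc : n.Coprime m) (h1 : v ^ n = 1) (h2 : v ^ m = 1) : v = 1 := by
  have h : v ^ n.gcd m = 1 := pow_gcd_eq_one.mpr ⟨h1, h2⟩
  rwa [hc, pow_one] at h

/-- The product over the conjugates under a subgroup of `A`. -/
noncomputable def phi (E : Subgroup Γ) (y : Γ) : Q := ∏ b ∈ fs E, P.pe (b * y * b⁻¹)

theorem conjW (hAW : A ≤ normalizer (W : Set Γ)) {a y : Γ} (ha : a ∈ A) (hy : y ∈ W) : a * y * a⁻¹ ∈ W :=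
  (Subgroup.mem_normalizer_iff.mp (hAW ha) y).mp hy

theorem phi_mul (hAW : A ≤ normalizer (W : Set Γ)) {E : Subgroup Γ} (hE : E ≤ A) {x y : Γ} (hx : x ∈ W) (hy : y ∈ W) :
    P.phi E (x * y) = P.phi E x * P.phi E y := by
  rw [phi, phi, phi, ← Finset.prod_mul_distrib]
  refine Finset.prod_congr rfl fun b hb => ?_
  rw [← P.mul _ (conjW hAW (hE (mem_fs.mp hb)) hx) _ (conjW hAW (hE (mem_fs.mp hb)) hy)]
  congr 1
  group

theorem phi_conj {E : Subgroup Γ} {d : Γ} (hd : d ∈ E) (y : Γ) : P.phi E (d * y * d⁻¹) = P.phi E y := by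
  refine Finset.prod_nbij' (fun b => b * d) (fun b => b * d⁻¹) (fun b hb => mem_fs.mpr (mul_mem (mem_fs.mp hb) hd))
    (fun b hb => mem_fs.mpr (mul_mem (mem_fs.mp hb) (inv_mem hd))) (fun b _ => by simp) (fun b _ => by simp)
    fun b _ => ?_
  congr 1
  group

theorem phi_pow_card (hAW : A ≤ normalizer (W : Set Γ)) {E : Subgroup Γ} (hE : E ≤ A) {y : Γ} (hy : y ∈ W) :
    P.phi E y ^ Nat.card W = 1 := by
  rw [phi, ← Finset.prod_pow]
  exact Finset.prod_eq_one fun b hb => P.pow_card (conjW hAW (hE (mem_fs.mp hb)) hy)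

theorem phi_fixed {E : Subgroup Γ} {y : Γ} (hy : y ∈ C E) : P.phi E y = P.pe y ^ Nat.card E := by
  rw [phi, ← card_fs E]
  exact Finset.prod_eq_pow_card fun b hb => by rw [conj_eq_of_mem_C hy (mem_fs.mp hb)]

theorem exists_pe_eq_phi (hAW : A ≤ normalizer (W : Set Γ)) {K : Subgroup Γ} (hKW : K ≤ W) {E : Subgroup Γ}
    (hEK : E ≤ normalizer (K : Set Γ)) {y : Γ} (hy : y ∈ K) (hE : E ≤ A) :
    ∃ z ∈ K, P.pe z = P.phi E y ∧ ∀ a ∈ E, P.pe (a * z * a⁻¹) = P.pe z := by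
  obtain ⟨z, hz, hze⟩ := Finset.prod_induction (fun b => P.pe (b * y * b⁻¹)) (fun v => ∃ z ∈ K, P.pe z = v)
    (by rintro _ _ ⟨x, hx, rfl⟩ ⟨w, hw, rfl⟩; exact ⟨x * w, mul_mem hx hw, P.mul _ (hKW hx) _ (hKW hw)⟩)
    ⟨1, one_mem K, P.pe_one⟩
    (fun b hb => ⟨_, (Subgroup.mem_normalizer_iff.mp (hEK (mem_fs.mp hb)) y).mp hy, rfl⟩) (s := fs E)
  refine ⟨z, hz, hze, fun a ha => ?_⟩
  rw [P.hq a (hE ha) z (hKW hz), hze, map_prod]
  refine Finset.prod_nbij' (fun b => a * b) (fun b => a⁻¹ * b) (fun b hb => mem_fs.mpr (mul_mem ha (mem_fs.mp hb)))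
    (fun b hb => mem_fs.mpr (mul_mem (inv_mem ha) (mem_fs.mp hb))) (fun b _ => by simp) (fun b _ => by simp)
    fun b hb => ?_
  rw [← P.hq a (hE ha) _ (conjW hAW (hE (mem_fs.mp hb)) (hKW hy))]
  congr 1
  group

end Proj

variable {p : ℕ} {A X : Subgroup Γ}

/-- The product of the conjugates is represented by a fixed element. -/
theorem Act.phi_lift (h : Act p A X) {W R' : Subgroup Γ} {Q : Type v} [CommGroup Q] (P : Proj A W R' Q)
    (hWX : W ≤ X) (hR'W : R' ≤ W) (hWR : W ≤ normalizer (R' : Set Γ)) (hAW : A ≤ normalizer (W : Set Γ))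
    (hAR : A ≤ normalizer (R' : Set Γ))
    {K : Subgroup Γ} (hKW : K ≤ W) {E : Subgroup Γ} (hE : E ≤ A) (hEK : E ≤ normalizer (K : Set Γ)) {y : Γ}
    (hy : y ∈ K) : ∃ c ∈ K ⊓ C E, P.pe c = P.phi E y := by
  obtain ⟨z, hz, hze, hzf⟩ := P.exists_pe_eq_phi hAW hKW hEK hy hE
  obtain ⟨c, hc, hzc⟩ := h.lift (K := K) (N := K ⊓ R') (hKW.trans hWX) hE hEK inf_le_left
    (fun g hg => normalizer_inf (Subgroup.le_normalizer hg) (hWR (hKW hg)))
    (fun g hg => normalizer_inf (hEK hg) (hAR (hE hg))) hz (fun a ha => by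
      have h1 : a * z * a⁻¹ ∈ K := (Subgroup.mem_normalizer_iff.mp (hEK ha) z).mp hz
      refine Subgroup.mem_inf.mpr ⟨mul_mem h1 (inv_mem hz), ?_⟩
      rw [← P.ker _ (mul_mem (hKW h1) (inv_mem (hKW hz))), P.mul _ (hKW h1) _ (inv_mem (hKW hz)),
        P.pe_inv (hKW hz), hzf a ha, mul_inv_cancel])
  exact ⟨c, hc, by rw [← hze, P.pe_eq (hKW hz) (hKW (Subgroup.mem_inf.mp hc).1) (Subgroup.mem_inf.mp hzc).2]⟩

theorem exists_proj {W R' : Subgroup Γ} (hR : R' ≤ W) (hWW : ⁅W, W⁆ ≤ R') (hAW : A ≤ normalizer (W : Set Γ))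
    (hAR : A ≤ normalizer (R' : Set Γ)) :
    ∃ (Q : Type u) (_ : CommGroup Q), Nonempty (Proj A W R' Q) := by
  classical
  haveI : (R'.subgroupOf W).Normal := ⟨fun x hx g => by
    rw [Subgroup.mem_subgroupOf] at hx ⊢
    push_cast
    rw [show (g : Γ) * x * (g : Γ)⁻¹ = ⁅(g : Γ), (x : Γ)⁆ * x by rw [commutatorElement_def]; group]
    exact mul_mem (hWW (Subgroup.commutator_mem_commutator g.2 (hR hx))) hx⟩
  let Q := ↥W ⧸ R'.subgroupOf W
  letI inst : CommGroup Q :=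
    { (inferInstance : Group Q) with
      mul_comm := fun a b => by
        refine QuotientGroup.induction_on a fun x => QuotientGroup.induction_on b fun y => ?_
        rw [← QuotientGroup.mk_mul, ← QuotientGroup.mk_mul, QuotientGroup.eq, Subgroup.mem_subgroupOf]
        have : (((x * y)⁻¹ * (y * x) : ↥W) : Γ) = ⁅(y : Γ)⁻¹, (x : Γ)⁻¹⁆ := by
          rw [commutatorElement_def]; push_cast; group
        rw [this]
        exact hWW (Subgroup.commutator_mem_commutator (inv_mem y.2) (inv_mem x.2)) }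
  let pe : Γ → Q := fun x => if hx : x ∈ W then QuotientGroup.mk' (R'.subgroupOf W) ⟨x, hx⟩ else 1
  have hpe : ∀ x : ↥W, pe x = QuotientGroup.mk' (R'.subgroupOf W) x := fun x => by simp [pe, x.2]
  let cA : ∀ a : Γ, a ∈ A → ↥W →* ↥W := fun a ha =>
    { toFun := fun z => ⟨a * z * a⁻¹, (Subgroup.mem_normalizer_iff.mp (hAW ha) _).mp z.2⟩
      map_one' := by ext; simp
      map_mul' := fun z w => by ext; simp [mul_assoc] }
  let qA : ∀ a : Γ, a ∈ A → (Q →* Q) := fun a ha => QuotientGroup.map _ _ (cA a ha) (fun z hz => by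
    rw [Subgroup.mem_comap, Subgroup.mem_subgroupOf]
    exact (Subgroup.mem_normalizer_iff.mp (hAR ha) _).mp (Subgroup.mem_subgroupOf.mp hz))
  refine ⟨Q, inst, ⟨⟨pe, fun x hx y hy => ?_, fun x hx => ?_, fun a => if ha : a ∈ A then qA a ha else 1,
    fun a ha x hx => ?_⟩⟩⟩
  · rw [show x * y = ((⟨x, hx⟩ * ⟨y, hy⟩ : ↥W) : Γ) from rfl, hpe, map_mul, ← hpe, ← hpe]
  · rw [show x = ((⟨x, hx⟩ : ↥W) : Γ) from rfl, hpe, QuotientGroup.mk'_apply, QuotientGroup.eq_one_iff,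
      Subgroup.mem_subgroupOf]
  · rw [dif_pos ha, show x = ((⟨x, hx⟩ : ↥W) : Γ) from rfl, hpe,
      show a * ((⟨x, hx⟩ : ↥W) : Γ) * a⁻¹ = ((cA a ha ⟨x, hx⟩ : ↥W) : Γ) from rfl, hpe]
    rfl

/-- The fixed points of `W` are special. -/
def Good (p : ℕ) (A X : Subgroup Γ) (F : Subgroup Γ → Subgroup Γ) (f : ℕ) (W : Subgroup Γ) : Prop :=
  (∀ B, Cor p A 1 B → W ⊓ C B ≤ R p A X F f B) ∧ W ⊓ C A ≤ R p A X F (f - 1) A

/-- A layer of commutators. -/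
structure Layer (A : Subgroup Γ) (K1 K2 U J W W0 : Subgroup Γ) : Prop where
  hU : U ≤ K1
  hJ : J ≤ K2
  aU : A ≤ normalizer (U : Set Γ)
  aJ : A ≤ normalizer (J : Set Γ)
  aW : A ≤ normalizer (W : Set Γ)
  a0 : A ≤ normalizer (W0 : Set Γ)
  hWU : W ≤ U
  h0 : W0 ≤ W
  hWW : ⁅W, W⁆ ≤ W0
  hUW : ⁅U, W⁆ ≤ W0
  hUJ : ⁅U, J⁆ ≤ W
  hspan : W ≤ W0 ⊔ ⁅U, J⁆

theorem conj_comm_mem {p : ℕ} {A X : Subgroup Γ} (h : Act p A X) {a b y : Γ} (ha : a ∈ A) (hb : b ∈ A) :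
    a * (b * y * b⁻¹) * a⁻¹ = b * (a * y * a⁻¹) * b⁻¹ := by
  rw [show a * (b * y * b⁻¹) * a⁻¹ = a * b * y * (a * b)⁻¹ by group, h.comm a ha b hb]
  group

theorem layer_good (h : Act p A X) {F1 F2 F3 : Subgroup Γ → Subgroup Γ} (hF1 : Fn F1) (hF2 : Fn F2) (hF3 : Fn F3)
    (h3 : ∀ H, ⁅F1 H, F2 H⁆ ≤ F3 H) {f1 f2 : ℕ} (g1 : Gen p A X F1 f1) (g2 : Gen p A X F2 f2)
    {U J W W0 : Subgroup Γ} (L : Layer A (F1 X) (F2 X) U J W W0) (h0 : Good p A X F3 (f1 + f2) W0) :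
    Good p A X F3 (f1 + f2) W := by
  have o1 := g1.one_le
  have o2 := g2.one_le
  set f := f1 + f2 with hf
  have hUX : U ≤ X := L.hU.trans ((hF1.le X))
  have hJX : J ≤ X := L.hJ.trans ((hF2.le X))
  have hWX : W ≤ X := L.hWU.trans hUX
  have hUN : ∀ u ∈ U, ∀ w ∈ W, ⁅u, w⁆ ∈ W0 := fun u hu w hw => L.hUW (Subgroup.commutator_mem_commutator hu hw)
  have hyW : ∀ u ∈ U, ∀ s ∈ J, ⁅u, s⁆ ∈ W := fun u hu s hs => L.hUJ (Subgroup.commutator_mem_commutator hu hs)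
  -- generation
  let T : Subgroup Γ := W0 ⊔ Subgroup.closure {y | ∃ B B', Cor p A 1 B ∧ Cor p A 1 B' ∧
    ∃ u ∈ U ⊓ C B, ∃ s ∈ J ⊓ C B', ⁅u, s⁆ = y}
  have hTW : T ≤ W := sup_le L.h0 ((Subgroup.closure_le _).mpr (by
    rintro _ ⟨B, B', -, -, u, hu, s, hs, rfl⟩
    exact hyW u (Subgroup.mem_inf.mp hu).1 s (Subgroup.mem_inf.mp hs).1))
  have hWT : W ≤ T := by
    refine L.hspan.trans (sup_le le_sup_left (Subgroup.commutator_le.mpr ?_))
    have hgen : ∀ B', Cor p A 1 B' → ∀ s ∈ J ⊓ C B', ∀ u ∈ U, ⁅u, s⁆ ∈ T := by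
      intro B' hB' s hs u hu
      have hu' := h.gen_hyper hUX L.aU hu
      suffices h2 : u ∈ U ∧ ⁅u, s⁆ ∈ T from h2.2
      clear hu
      induction hu' using Subgroup.iSup_induction' with
      | hp B v hv =>
        exact ⟨(Subgroup.mem_inf.mp hv).1,
          Subgroup.mem_sup_right (Subgroup.subset_closure ⟨B.1, B', B.2, hB', v, hv, s, hs, rfl⟩)⟩
      | h1 => exact ⟨one_mem U, by rw [commutatorElement_one_left]; exact one_mem T⟩
      | hmul v w _ _ h1 h2 =>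
        obtain ⟨hv, hv'⟩ := h1
        obtain ⟨hw, hw'⟩ := h2
        refine ⟨mul_mem hv hw, ?_⟩
        rw [show ⁅v * w, s⁆ = ⁅v, ⁅w, s⁆⁆ * ⁅w, s⁆ * ⁅v, s⁆ by simp only [commutatorElement_def]; group]
        exact mul_mem (mul_mem (Subgroup.mem_sup_left (hUN v hv _ (hyW w hw s (Subgroup.mem_inf.mp hs).1))) hw') hv'
    intro u hu s hs
    have hs' := h.gen_hyper hJX L.aJ hs
    suffices h2 : s ∈ J ∧ ∀ u ∈ U, ⁅u, s⁆ ∈ T from h2.2 u hu
    clear hs hu u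
    induction hs' using Subgroup.iSup_induction' with
    | hp B t ht =>
      exact ⟨(Subgroup.mem_inf.mp ht).1, hgen B.1 B.2 t ht⟩
    | h1 => exact ⟨one_mem J, fun u _ => by rw [commutatorElement_one_right]; exact one_mem T⟩
    | hmul t t' _ _ hh1 hh2 =>
      obtain ⟨ht, ht1⟩ := hh1
      obtain ⟨ht', ht2⟩ := hh2
      refine ⟨mul_mem ht ht', fun u hu => ?_⟩
      have h1 := ht2 u hu
      have h2 := ht1 _ (L.hWU (hTW h1))
      rw [show ⁅u, t * t'⁆ = ⁅u, t⁆ * (⁅⁅u, t'⁆, t⁆⁻¹ * ⁅u, t'⁆) by simp only [commutatorElement_def]; group]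
      exact mul_mem (ht1 u hu) (mul_mem (inv_mem h2) h1)
  -- from the generators to all of `W`
  have finish : ∀ (B : Subgroup Γ), B ≤ A → ∀ (g : ℕ), W0 ⊓ C B ≤ R p A X F3 g B →
      (∀ (R' : Subgroup Γ) (Q : Type u) [CommGroup Q] (P : Proj A W R' Q), W0 ≤ R' → R' ≤ W →
        A ≤ normalizer (R' : Set Γ) → W ≤ normalizer (R' : Set Γ) → R p A X F3 g B ⊓ W ≤ R' →
        ∀ B1 B2, Cor p A 1 B1 → Cor p A 1 B2 → ∀ u ∈ U ⊓ C B1, ∀ s ∈ J ⊓ C B2, P.phi B ⁅u, s⁆ = 1) →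
      W ⊓ C B ≤ R p A X F3 g B := by
    intro B hB g hW0 hgen x hx
    obtain ⟨hxW, hxB⟩ := Subgroup.mem_inf.mp hx
    set R' := (R p A X F3 g B ⊓ W) ⊔ W0 with hR'
    have hR'W : R' ≤ W := sup_le inf_le_right L.h0
    have hAR : A ≤ normalizer (R' : Set Γ) := fun a ha =>
      Subgroup.normalizer_inf_normalizer_le_normalizer_sup _ _
        ⟨normalizer_inf (h.A_le_normalizer_R hF3 g hB ha) (L.aW ha), L.a0 ha⟩
    have hWW : ⁅W, W⁆ ≤ R' := L.hWW.trans le_sup_right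
    have hWR : W ≤ normalizer (R' : Set Γ) := Subgroup.le_normalizer_iff_commutator_le_left.mpr
      ((Subgroup.commutator_mono hR'W le_rfl).trans hWW)
    obtain ⟨Q, _, ⟨P⟩⟩ := exists_proj (A := A) hR'W hWW L.aW hAR
    have hall : ∀ w ∈ T, P.phi B w = 1 := by
      let S : Subgroup Γ :=
        { carrier := {w | w ∈ W ∧ P.phi B w = 1}
          one_mem' := ⟨one_mem W, Finset.prod_eq_one fun b _ => by rw [mul_one, mul_inv_cancel, P.pe_one]⟩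
          mul_mem' := fun {a b} ha hb => ⟨mul_mem ha.1 hb.1, by rw [P.phi_mul L.aW hB ha.1 hb.1, ha.2, hb.2, one_mul]⟩
          inv_mem' := fun {a} ha => ⟨inv_mem ha.1, by
            have h1 := P.phi_mul L.aW hB (inv_mem ha.1) ha.1
            rw [inv_mul_cancel, ha.2, mul_one] at h1
            rw [← h1]
            exact Finset.prod_eq_one fun b _ => by rw [mul_one, mul_inv_cancel, P.pe_one]⟩ }
      have hTS : T ≤ S := by
        refine sup_le (fun w hw => ⟨L.h0 hw, Finset.prod_eq_one fun b hb => ?_⟩) ((Subgroup.closure_le _).mpr ?_)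
        · have hb' := hB (Proj.mem_fs.mp hb)
          exact (P.ker _ (Proj.conjW L.aW hb' (L.h0 hw))).mpr
            (le_sup_right (a := R p A X F3 g B ⊓ W) ((Subgroup.mem_normalizer_iff.mp (L.a0 hb') w).mp hw))
        · rintro _ ⟨B1, B2, hB1, hB2, u, hu, s, hs, rfl⟩
          exact ⟨hyW u (Subgroup.mem_inf.mp hu).1 s (Subgroup.mem_inf.mp hs).1,
            hgen R' Q P le_sup_right hR'W hAR hWR le_sup_left B1 B2 hB1 hB2 u hu s hs⟩
      exact fun w hw => (hTS hw).2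
    have h1 := hall x (hWT hxW)
    rw [P.phi_fixed hxB] at h1
    have h2 := (P.ker x hxW).mp (Proj.eq_one_of_pow (h.card_coprime hWX hB) h1 (P.pow_card hxW))
    obtain ⟨w, hw, r, hr, rfl⟩ := CfsgLib.mem_sup_of_le_normalizer (A := R p A X F3 g B ⊓ W) (W := W0)
      (inf_le_right.trans (Subgroup.le_normalizer_iff_commutator_le_left.mpr
        ((Subgroup.commutator_mono L.h0 le_rfl).trans L.hWW))) (by rwa [hR', sup_comm] at h2)
    have hrB : r ∈ C B := R_le_C g B (Subgroup.mem_inf.mp hr).1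
    have hwB : w ∈ C B := by
      have := mul_mem hxB (inv_mem hrB)
      rwa [mul_inv_cancel_right] at this
    exact mul_mem (hW0 (Subgroup.mem_inf.mpr ⟨hw, hwB⟩)) (Subgroup.mem_inf.mp hr).1
  -- the products over `A`
  have phiA : ∀ (R' : Subgroup Γ) (Q : Type u) [CommGroup Q] (P : Proj A W R' Q), W0 ≤ R' → R' ≤ W →
      A ≤ normalizer (R' : Set Γ) → W ≤ normalizer (R' : Set Γ) → R p A X F3 (f - 1) A ⊓ W ≤ R' →
      ∀ B1 B2, Cor p A 1 B1 → Cor p A 1 B2 → ∀ u ∈ U ⊓ C B1, ∀ s ∈ J ⊓ C B2, P.phi A ⁅u, s⁆ = 1 := by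
    intro R' Q _ P hW0 hR'W hAR hWR hRA
    have easy : ∀ B1 B2, B1 ≤ A → B2 ≤ A → ∀ a b, F1 X ⊓ C B1 ≤ R p A X F1 a B1 →
        F2 X ⊓ C B2 ≤ R p A X F2 b B2 →
        (∀ E, Cor p A a E → E ≤ B1 → ∀ E', Cor p A b E' → E' ≤ B2 → Cor p A (f - 1) (E ⊓ E')) →
        ∀ u ∈ U ⊓ C B1, ∀ s ∈ J ⊓ C B2, P.phi A ⁅u, s⁆ = 1 := by
      intro B1 B2 hB1 hB2 a b ha hb hcor u hu s hs
      obtain ⟨hu1, hu2⟩ := Subgroup.mem_inf.mp hu
      obtain ⟨hs1, hs2⟩ := Subgroup.mem_inf.mp hs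
      have hy := comm_R_le hF1 hF2 hF3 h3 hcor (Subgroup.commutator_mem_commutator
        (ha (Subgroup.mem_inf.mpr ⟨L.hU hu1, hu2⟩)) (hb (Subgroup.mem_inf.mpr ⟨L.hJ hs1, hs2⟩)))
      have hD : B1 ⊓ B2 ≤ A := inf_le_left.trans hB1
      obtain ⟨c, hc, hce⟩ := h.phi_lift P hWX hR'W hWR L.aW hAR (K := W ⊓ R p A X F3 (f - 1) (B1 ⊓ B2))
        inf_le_left (E := A) le_rfl (fun g hg => normalizer_inf (L.aW hg) (h.A_le_normalizer_R hF3 _ hD hg))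
        (Subgroup.mem_inf.mpr ⟨hyW u hu1 s hs1, hy⟩)
      obtain ⟨hc1, hcA⟩ := Subgroup.mem_inf.mp hc
      obtain ⟨hcW, hcR⟩ := Subgroup.mem_inf.mp hc1
      rw [← hce]
      exact (P.ker c hcW).mpr (hRA (Subgroup.mem_inf.mpr
        ⟨h.R_inf_le hF3 hD le_rfl hD (Subgroup.mem_inf.mpr ⟨hcR, hcA⟩), hcW⟩))
    intro B1 B2 hB1 hB2 u hu s hs
    rcases eq_top_or_index h hB1 with rfl | i1
    · exact easy _ _ le_rfl hB2.1 (f1 - 1) f2 g1.top (g2.hyper _ hB2)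
        (fun E hE _ E' hE' _ => (hE.inf hE').mono h.prime (by omega)) u hu s hs
    rcases eq_top_or_index h hB2 with rfl | i2
    · exact easy _ _ hB1.1 le_rfl f1 (f2 - 1) (g1.hyper _ hB1) g2.top
        (fun E hE _ E' hE' _ => (hE.inf hE').mono h.prime (by omega)) u hu s hs
    by_cases heq : B1 = B2
    · subst heq
      exact easy _ _ hB1.1 hB1.1 f1 f2 (g1.hyper _ hB1) (g2.hyper _ hB1)
        (fun E hE hEB E' hE' hEB' => Cor.inf_of_le h i1 hB1.1 hEB hEB' hE hE') u hu s hs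
    -- two different subgroups of index `p`
    have hsup : B1 ⊔ B2 = A := by
      refine sup_eq_of_not_le h hB1 hB2.1 fun hle => heq ?_
      have h1 := Subgroup.relIndex_mul_relIndex B2 B1 A hle hB1.1
      rw [i1, i2] at h1
      exact le_antisymm (Subgroup.relIndex_eq_one.mp
        (Nat.eq_of_mul_eq_mul_right h.prime.pos (h1.trans (one_mul p).symm))) hle
    obtain ⟨hu1, hu2⟩ := Subgroup.mem_inf.mp hu
    obtain ⟨hs1, hs2⟩ := Subgroup.mem_inf.mp hs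
    have hconjU : ∀ a ∈ A, ∀ v ∈ U, a * v * a⁻¹ ∈ U := fun a ha v hv =>
      (Subgroup.mem_normalizer_iff.mp (L.aU ha) v).mp hv
    have hconjJ : ∀ a ∈ A, ∀ v ∈ J, a⁻¹ * v * a ∈ J := fun a ha v hv => by
      have := (Subgroup.mem_normalizer_iff.mp (L.aJ (inv_mem ha)) v).mp hv
      rwa [inv_inv] at this
    have hmulU : ∀ v ∈ U, ∀ w ∈ U, ∀ t ∈ J, P.pe ⁅v * w, t⁆ = P.pe ⁅v, t⁆ * P.pe ⁅w, t⁆ := by
      intro v hv w hw t ht
      have e1 := hyW w hw t ht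
      have e2 := L.h0 (hUN v hv _ e1)
      rw [show ⁅v * w, t⁆ = ⁅v, ⁅w, t⁆⁆ * ⁅w, t⁆ * ⁅v, t⁆ by simp only [commutatorElement_def]; group,
        P.mul _ (mul_mem e2 e1) _ (hyW v hv t ht), P.mul _ e2 _ e1, (P.ker _ e2).mpr (hW0 (hUN v hv _ e1)),
        one_mul, mul_comm]
    have hconj : ∀ a ∈ A, ∀ v ∈ U, ∀ t ∈ J,
        P.pe ⁅a * v * a⁻¹, t⁆ = P.q a (P.pe ⁅v, a⁻¹ * t * a⁆) := by
      intro a ha v hv t ht
      rw [← P.hq a ha _ (hyW v hv _ (hconjJ a ha t ht))]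
      congr 1
      simp only [commutatorElement_def]
      group
    obtain ⟨z, hz, hzs⟩ : ∃ z ∈ U, ∀ t ∈ J, P.pe ⁅z, t⁆ = ∏ b ∈ Proj.fs B2, P.pe ⁅b * u * b⁻¹, t⁆ := by
      classical
      suffices ∀ S : Finset Γ, S ⊆ Proj.fs B2 → ∃ z ∈ U, ∀ t ∈ J, P.pe ⁅z, t⁆ = ∏ b ∈ S, P.pe ⁅b * u * b⁻¹, t⁆ from
        this _ subset_rfl
      intro S
      induction S using Finset.induction_on with
      | empty => exact fun _ => ⟨1, one_mem U, fun t _ => by rw [commutatorElement_one_left, Finset.prod_empty, P.pe_one]⟩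
      | @insert b S hb ih =>
        intro hS
        rw [Finset.insert_subset_iff] at hS
        obtain ⟨z, hz, hzs⟩ := ih hS.2
        have hb' := hconjU b (hB2.1 (Proj.mem_fs.mp hS.1)) u hu1
        exact ⟨_, mul_mem hb' hz, fun t ht => by rw [hmulU _ hb' _ hz t ht, hzs t ht, Finset.prod_insert hb]⟩
    have hprod : ∀ a ∈ A, ∀ t ∈ J,
        P.pe ⁅a * z * a⁻¹, t⁆ = ∏ b ∈ Proj.fs B2, P.pe ⁅a * (b * u * b⁻¹) * a⁻¹, t⁆ := by
      intro a ha t ht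
      rw [hconj a ha z hz t ht, hzs _ (hconjJ a ha t ht), map_prod]
      exact Finset.prod_congr rfl fun b hb => (hconj a ha _ (hconjU b (hB2.1 (Proj.mem_fs.mp hb)) u hu1) t ht).symm
    have fix1 : ∀ a ∈ B1, ∀ t ∈ J, P.pe ⁅a * z * a⁻¹, t⁆ = P.pe ⁅z, t⁆ := by
      intro a ha t ht
      rw [hprod a (hB1.1 ha) t ht, hzs t ht]
      refine Finset.prod_congr rfl fun b hb => ?_
      rw [conj_comm_mem h (hB1.1 ha) (hB2.1 (Proj.mem_fs.mp hb)), conj_eq_of_mem_C hu2 ha]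
    have fix2 : ∀ a ∈ B2, ∀ t ∈ J, P.pe ⁅a * z * a⁻¹, t⁆ = P.pe ⁅z, t⁆ := by
      intro a ha t ht
      rw [hprod a (hB2.1 ha) t ht, hzs t ht]
      refine Finset.prod_nbij' (fun b => a * b) (fun b => a⁻¹ * b)
        (fun b hb => Proj.mem_fs.mpr (mul_mem ha (Proj.mem_fs.mp hb)))
        (fun b hb => Proj.mem_fs.mpr (mul_mem (inv_mem ha) (Proj.mem_fs.mp hb))) (fun b _ => by simp)
        (fun b _ => by simp) fun b _ => ?_
      congr 2
      group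
    let N : Subgroup Γ :=
      { carrier := {v | v ∈ U ∧ ∀ t ∈ J, P.pe ⁅v, t⁆ = 1}
        one_mem' := ⟨one_mem U, fun t _ => by rw [commutatorElement_one_left, P.pe_one]⟩
        mul_mem' := fun {v w} hv hw => ⟨mul_mem hv.1 hw.1, fun t ht => by
          rw [hmulU v hv.1 w hw.1 t ht, hv.2 t ht, hw.2 t ht, one_mul]⟩
        inv_mem' := fun {v} hv => ⟨inv_mem hv.1, fun t ht => by
          have h1 := hmulU _ (inv_mem hv.1) v hv.1 t ht
          rw [inv_mul_cancel, commutatorElement_one_left, P.pe_one, hv.2 t ht, mul_one] at h1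
          exact h1.symm⟩ }
    have hinv : ∀ v ∈ U, ∀ t ∈ J, P.pe ⁅v⁻¹, t⁆ = (P.pe ⁅v, t⁆)⁻¹ := fun v hv t ht => by
      refine eq_inv_of_mul_eq_one_left ?_
      rw [← hmulU _ (inv_mem hv) v hv t ht, inv_mul_cancel, commutatorElement_one_left, P.pe_one]
    have hNconj : ∀ g ∈ U, ∀ v ∈ N, g * v * g⁻¹ ∈ N := fun g hg v hv =>
      ⟨mul_mem (mul_mem hg hv.1) (inv_mem hg), fun t ht => by
        rw [hmulU _ (mul_mem hg hv.1) _ (inv_mem hg) t ht, hmulU g hg v hv.1 t ht, hv.2 t ht, mul_one,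
          hinv g hg t ht, mul_inv_cancel]⟩
    have hNA : ∀ a ∈ A, ∀ v ∈ N, a * v * a⁻¹ ∈ N := fun a ha v hv =>
      ⟨hconjU a ha v hv.1, fun t ht => by rw [hconj a ha v hv.1 t ht, hv.2 _ (hconjJ a ha t ht), map_one]⟩
    have toNorm : ∀ S : Subgroup Γ, (∀ g ∈ S, ∀ v ∈ N, g * v * g⁻¹ ∈ N) → S ≤ normalizer (N : Set Γ) := by
      intro S hS g hg
      refine Subgroup.mem_normalizer_iff.mpr fun v => ⟨hS g hg v, fun hv => ?_⟩
      have := hS g⁻¹ (inv_mem hg) _ hv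
      rwa [show g⁻¹ * (g * v * g⁻¹) * g⁻¹⁻¹ = v by group] at this
    obtain ⟨c, hc, hzc⟩ := h.lift (K := U) (N := N) hUX (E := A) le_rfl L.aU (fun v hv => hv.1)
      (toNorm U hNconj) (toNorm A hNA) hz (fun a ha => by
        have ha' : a ∈ B1 ⊔ B2 := hsup.ge ha
        obtain ⟨x, hx, y, hy, rfl⟩ := CfsgLib.mem_sup_of_le_normalizer (A := B2) (W := B1)
          ((hB2.1.trans (h.A_le_C hB1.1)).trans (Subgroup.centralizer_le_normalizer _)) ha'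
        have hxy := mul_mem (hB1.1 hx) (hB2.1 hy)
        refine ⟨mul_mem (hconjU _ hxy z hz) (inv_mem hz), fun t ht => ?_⟩
        rw [hmulU _ (hconjU _ hxy z hz) _ (inv_mem hz) t ht, hinv z hz t ht,
          show x * y * z * (x * y)⁻¹ = x * (y * z * y⁻¹) * x⁻¹ by group,
          hconj x (hB1.1 hx) _ (hconjU y (hB2.1 hy) z hz) t ht, fix2 y hy _ (hconjJ x (hB1.1 hx) t ht),
          ← hconj x (hB1.1 hx) z hz t ht, fix1 x hx t ht, mul_inv_cancel])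
    obtain ⟨hcU, hcA⟩ := Subgroup.mem_inf.mp hc
    have hsum : ∏ b ∈ Proj.fs B2, P.pe (b * ⁅u, s⁆ * b⁻¹) = P.pe ⁅c, s⁆ := by
      have h1 : P.pe ⁅c, s⁆ = P.pe ⁅z, s⁆ := by
        rw [show c = z * (z⁻¹ * c) by rw [mul_inv_cancel_left], hmulU z hz _ hzc.1 s hs1, hzc.2 s hs1, mul_one]
      rw [h1, hzs s hs1]
      refine Finset.prod_congr rfl fun b hb => ?_
      congr 1
      have e := conj_eq_of_mem_C hs2 (Proj.mem_fs.mp hb)
      calc b * ⁅u, s⁆ * b⁻¹ = ⁅b * u * b⁻¹, b * s * b⁻¹⁆ := by simp only [commutatorElement_def]; group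
        _ = _ := by rw [e]
    have hc1 := easy A B2 le_rfl hB2.1 (f1 - 1) f2 g1.top (g2.hyper _ hB2)
      (fun E hE _ E' hE' _ => (hE.inf hE').mono h.prime (by omega)) c (Subgroup.mem_inf.mpr ⟨hcU, hcA⟩) s hs
    have hy := hyW u hu1 s hs1
    refine Proj.eq_one_of_pow (h.card_coprime hWX hB2.1) ?_ (P.phi_pow_card L.aW le_rfl hy)
    rw [← Proj.card_fs, ← Finset.prod_const,
      Finset.prod_congr rfl fun b hb => (P.phi_conj (hB2.1 (Proj.mem_fs.mp hb)) ⁅u, s⁆).symm]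
    rw [← hc1]
    simp only [Proj.phi]
    rw [Finset.prod_comm]
    refine Finset.prod_congr rfl fun a ha => ?_
    have ha' := Proj.mem_fs.mp ha
    rw [P.hq a ha' _ (hyW c hcU s hs1), ← hsum, map_prod]
    exact Finset.prod_congr rfl fun b hb => P.hq a ha' _ (Proj.conjW L.aW (hB2.1 (Proj.mem_fs.mp hb)) hy)
  refine ⟨fun B hB => ?_, finish A le_rfl (f - 1) h0.2 phiA⟩
  refine finish B hB.1 f (h0.1 B hB) fun R' Q _ P hW0 hR'W hAR hWR hRB B1 B2 hB1 hB2 u hu s hs => ?_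
  obtain ⟨hu1, hu2⟩ := Subgroup.mem_inf.mp hu
  obtain ⟨hs1, hs2⟩ := Subgroup.mem_inf.mp hs
  have hyD : ⁅u, s⁆ ∈ R p A X F3 f (B1 ⊓ B2) := comm_R_le hF1 hF2 hF3 h3
    (fun E hE _ E' hE' _ => hE.inf hE') (Subgroup.commutator_mem_commutator
      (g1.hyper _ hB1 (Subgroup.mem_inf.mpr ⟨L.hU hu1, hu2⟩))
      (g2.hyper _ hB2 (Subgroup.mem_inf.mpr ⟨L.hJ hs1, hs2⟩)))
  have hD : B1 ⊓ B2 ≤ A := inf_le_left.trans hB1.1
  have hy := hyW u hu1 s hs1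
  by_cases hDB : B1 ⊓ B2 ≤ B
  · obtain ⟨c, hc, hce⟩ := h.phi_lift P hWX hR'W hWR L.aW hAR (K := W ⊓ R p A X F3 f (B1 ⊓ B2))
      inf_le_left (E := B) hB.1 (fun g hg => normalizer_inf (L.aW (hB.1 hg)) (h.A_le_normalizer_R hF3 _ hD (hB.1 hg)))
      (Subgroup.mem_inf.mpr ⟨hy, hyD⟩)
    obtain ⟨hc1, hcB⟩ := Subgroup.mem_inf.mp hc
    obtain ⟨hcW, hcR⟩ := Subgroup.mem_inf.mp hc1
    rw [← hce]
    exact (P.ker c hcW).mpr (hRB (Subgroup.mem_inf.mpr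
      ⟨h.R_inf_le hF3 hD hB.1 hDB (Subgroup.mem_inf.mpr ⟨hcR, hcB⟩), hcW⟩))
  · have hA1 := phiA R' Q P hW0 hR'W hAR hWR ((inf_le_inf_right W (R_top_le hF3 (by omega) hB)).trans hRB)
      B1 B2 hB1 hB2 u hu s hs
    have hsupB := sup_eq_of_not_le h hB hD hDB
    have hyDC : ⁅u, s⁆ ∈ C (B1 ⊓ B2) := R_le_C f _ hyD
    obtain ⟨z, hz, hze, hzf⟩ := P.exists_pe_eq_phi L.aW le_rfl (hB.1.trans L.aW) hy hB.1
    have hfixD : ∀ d ∈ B1 ⊓ B2, P.q d (P.phi B ⁅u, s⁆) = P.phi B ⁅u, s⁆ := by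
      intro d hd
      simp only [Proj.phi]
      rw [map_prod]
      refine Finset.prod_congr rfl fun b hb => ?_
      have hb' := hB.1 (Proj.mem_fs.mp hb)
      rw [← P.hq d (hD hd) _ (Proj.conjW L.aW hb' hy), conj_comm_mem h (hD hd) hb', conj_eq_of_mem_C hyDC hd]
    have hfixA : ∀ a ∈ A, P.q a (P.phi B ⁅u, s⁆) = P.phi B ⁅u, s⁆ := by
      intro a ha
      obtain ⟨x, hx, d, hd, rfl⟩ := CfsgLib.mem_sup_of_le_normalizer (A := B1 ⊓ B2) (W := B)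
        ((hD.trans (h.A_le_C hB.1)).trans (Subgroup.centralizer_le_normalizer _)) (hsupB.ge ha)
      have h1 : P.pe (d * z * d⁻¹) = P.pe z := by rw [P.hq d (hD hd) z hz, hze, hfixD d hd]
      rw [← hze, ← P.hq _ (mul_mem (hB.1 hx) (hD hd)) z hz,
        show x * d * z * (x * d)⁻¹ = x * (d * z * d⁻¹) * x⁻¹ by group,
        P.hq x (hB.1 hx) _ (Proj.conjW L.aW (hD hd) hz), h1, ← P.hq x (hB.1 hx) z hz, hzf x hx]
    refine Proj.eq_one_of_pow (h.card_coprime hWX le_rfl) ?_ (P.phi_pow_card L.aW hB.1 hy)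
    rw [← Proj.card_fs A, ← Finset.prod_const,
      Finset.prod_congr rfl fun a ha => (hfixA a (Proj.mem_fs.mp ha)).symm]
    simp only [Proj.phi, map_prod]
    rw [Finset.prod_comm]
    refine Finset.prod_eq_one fun b hb => ?_
    rw [Finset.prod_congr rfl fun a ha =>
      (P.hq a (Proj.mem_fs.mp ha) _ (Proj.conjW L.aW (hB.1 (Proj.mem_fs.mp hb)) hy)).symm]
    exact (P.phi_conj (E := A) (hB.1 (Proj.mem_fs.mp hb)) _).trans hA1

end CfsgLib.CentClass
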