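import Cfsg.Agent.Lib.CentClass.Kreknin
import Cfsg.Agent.Lib.LieFpf.GroupLie

/-!
Lie rings: solvability from a nilpotently acting fixed subring, and nilpotent action of a solvable subring
spanned by nilpotently acting families.
-/

set_option autoImplicit false

namespace CfsgLib.CentClass

open CfsgLib.LieFpf
open scoped TensorProduct

universe u

variable {L : Type u} [LieRing L]

/-- The derived series. -/
def derL (L : Type u) [LieRing L] : ℕ → AddSubgroup L
  | 0 => ⊤
  | k + 1 => AddSubgroup.closure {z | ∃ x ∈ derL L k, ∃ y ∈ derL L k, ⁅x, y⁆ = z}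

/-- The additive span of the brackets of `V` with `X`. -/
def act (X V : AddSubgroup L) : AddSubgroup L :=
  AddSubgroup.closure {z | ∃ v ∈ V, ∃ x ∈ X, ⁅v, x⁆ = z}

/-- `m`-fold brackets with `X`. -/
def actN (X : AddSubgroup L) : ℕ → AddSubgroup L → AddSubgroup L
  | 0, V => V
  | m + 1, V => act X (actN X m V)

/-- `X` acts nilpotently. -/
def Nil (X : AddSubgroup L) (m : ℕ) : Prop := actN X m ⊤ = ⊥

theorem mem_act {X V : AddSubgroup L} {v x : L} (hv : v ∈ V) (hx : x ∈ X) : ⁅v, x⁆ ∈ act X V :=
  AddSubgroup.subset_closure ⟨v, hv, x, hx, rfl⟩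

theorem act_le {X V T : AddSubgroup L} (h : ∀ v ∈ V, ∀ x ∈ X, ⁅v, x⁆ ∈ T) : act X V ≤ T :=
  (AddSubgroup.closure_le _).mpr (by rintro _ ⟨v, hv, x, hx, rfl⟩; exact h v hv x hx)

theorem act_mono {X X' V V' : AddSubgroup L} (hX : X ≤ X') (hV : V ≤ V') : act X V ≤ act X' V' :=
  act_le fun _ hv _ hx => mem_act (hV hv) (hX hx)

theorem actN_mono {X X' : AddSubgroup L} (hX : X ≤ X') : ∀ m {V V' : AddSubgroup L}, V ≤ V' →
    actN X m V ≤ actN X' m V'
  | 0, _, _, h => h
  | m + 1, _, _, h => act_mono hX (actN_mono hX m h)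

theorem actN_add (X : AddSubgroup L) (a : ℕ) : ∀ b V, actN X (a + b) V = actN X b (actN X a V)
  | 0, _ => rfl
  | b + 1, V => by show act X (actN X (a + b) V) = _; rw [actN_add X a b V]; rfl

/-- An iterated bracket. -/
def fold (v : L) (l : List L) : L := l.foldl (fun v x => ⁅v, x⁆) v

theorem fold_add (v w : L) : ∀ l : List L, fold (v + w) l = fold v l + fold w l
  | [] => rfl
  | x :: l => by
    show fold ⁅v + w, x⁆ l = fold ⁅v, x⁆ l + fold ⁅w, x⁆ l
    rw [add_lie, fold_add]

theorem fold_zero : ∀ l : List L, fold (0 : L) l = 0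
  | [] => rfl
  | x :: l => by show fold ⁅(0 : L), x⁆ l = 0; rw [zero_lie, fold_zero l]

theorem fold_mem {Q : AddSubgroup L} : ∀ (l : List L) {v : L}, v ∈ Q → (∀ x ∈ l, ∀ q ∈ Q, ⁅q, x⁆ ∈ Q) →
    fold v l ∈ Q
  | [], _, hv, _ => hv
  | x :: l, _, hv, h => fold_mem l (h x List.mem_cons_self _ hv) fun y hy => h y (List.mem_cons_of_mem _ hy)

theorem fold_mem_actN {X : AddSubgroup L} : ∀ (l : List L) {V : AddSubgroup L} {v : L}, v ∈ V →
    (∀ x ∈ l, x ∈ X) → fold v l ∈ actN X l.length V := by
  intro l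
  induction l using List.reverseRecOn with
  | nil => intro V v hv _; exact hv
  | append_singleton l x ih =>
    intro V v hv h
    rw [fold, List.foldl_append, List.length_append]
    exact mem_act (ih hv fun y hy => h y (List.mem_append_left _ hy)) (h x (List.mem_append_right _ List.mem_cons_self))

theorem lie_closure {s t : Set L} {T : AddSubgroup L} (h : ∀ a ∈ s, ∀ b ∈ t, ⁅a, b⁆ ∈ T) {a b : L}
    (ha : a ∈ AddSubgroup.closure s) (hb : b ∈ AddSubgroup.closure t) : ⁅a, b⁆ ∈ T := by
  induction ha using AddSubgroup.closure_induction with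
  | mem a ha =>
    induction hb using AddSubgroup.closure_induction with
    | mem b hb => exact h a ha b hb
    | zero => rw [lie_zero]; exact zero_mem _
    | add u v _ _ hu hv => rw [lie_add]; exact add_mem hu hv
    | neg u _ hu => rw [lie_neg]; exact neg_mem hu
  | zero => rw [zero_lie]; exact zero_mem _
  | add u v _ _ hu hv => rw [add_lie]; exact add_mem hu hv
  | neg u _ hu => rw [neg_lie]; exact neg_mem hu

theorem actN_le_folds {X : AddSubgroup L} {gs : Set L} (hX : X ≤ AddSubgroup.closure gs) (V : AddSubgroup L) :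
    ∀ m, actN X m V ≤ AddSubgroup.closure {z | ∃ v ∈ V, ∃ l : List L, l.length = m ∧ (∀ x ∈ l, x ∈ gs) ∧ fold v l = z}
  | 0 => fun v hv => AddSubgroup.subset_closure ⟨v, hv, [], rfl, by simp, rfl⟩
  | m + 1 => act_le fun w hw x hx => by
    refine lie_closure ?_ (actN_le_folds hX V m hw) (hX hx)
    rintro _ ⟨v, hv, l, hl, hlg, rfl⟩ y hy
    refine AddSubgroup.subset_closure ⟨v, hv, l ++ [y], by simp [hl], fun z hz => ?_, by simp [fold]⟩
    rcases List.mem_append.mp hz with h | h
    · exact hlg z h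
    · exact (List.mem_singleton.mp h) ▸ hy

/-- The bound for nilpotent action. -/
def nilBound (N c s : ℕ) : ℕ := (N * c + 1) ^ s

/-- A solvable subring spanned by nilpotently acting families acts nilpotently. -/
theorem nil_of_spanned {ι : Type*} [Fintype ι] (Fam : ι → AddSubgroup L) {c : ℕ} (hFam : ∀ b, Nil (Fam b) c) :
    ∀ (s : ℕ) (H : ℕ → AddSubgroup L), H s = ⊥ →
      (∀ i, H i ≤ AddSubgroup.closure {z | ∃ b, z ∈ H i ∧ z ∈ Fam b}) →
      (∀ i, ∀ x ∈ H i, ∀ y ∈ H i, ⁅x, y⁆ ∈ H (i + 1)) →
      (∀ i, ∀ x ∈ H (i + 1), ∀ y ∈ H i, ⁅x, y⁆ ∈ H (i + 1)) →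
      Nil (H 0) (nilBound (Fintype.card ι) c s) := by
  intro s
  induction s with
  | zero =>
    intro H hH _ _ _
    rw [nilBound, pow_zero]
    exact le_bot_iff.mp (act_le fun v _ x hx => by rw [hH, AddSubgroup.mem_bot] at hx; rw [hx, lie_zero]; exact zero_mem _)
  | succ s ih =>
    intro H hH hgen hcomm hnorm
    classical
    set N := Fintype.card ι with hN
    set X' := H 1 with hX'
    set W := fun j => actN X' j (⊤ : AddSubgroup L) with hW
    have hW' : W (nilBound N c s) = ⊥ :=
      ih (fun i => H (i + 1)) hH (fun i => hgen (i + 1)) (fun i => hcomm (i + 1)) (fun i => hnorm (i + 1))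
    have hinv : ∀ j, ∀ v ∈ W j, ∀ x ∈ H 0, ⁅v, x⁆ ∈ W j := by
      intro j
      induction j with
      | zero => exact fun _ _ _ _ => AddSubgroup.mem_top _
      | succ j ihj =>
        intro v hv x hx
        refine br_left_induction (F := actN X' (j + 1) ⊤) rfl ?_ hv
        rintro _ ⟨w, hw, y, hy, rfl⟩
        refine lie_lie_mem_of ?_ (mem_act (ihj w hw x hx) hy)
        exact mem_act hw (hnorm 0 y hy x hx)
    have hblock : ∀ j, actN (H 0) (N * c + 1) (W j) ≤ W (j + 1) := by
      intro j
      refine (actN_le_folds (hgen 0) (W j) _).trans ((AddSubgroup.closure_le _).mpr ?_)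
      rintro _ ⟨v, hv, l, hl, hlg, rfl⟩
      have hQ : ∀ x ∈ H 0, ∀ q ∈ W (j + 1), ⁅q, x⁆ ∈ W (j + 1) := fun x hx q hq => hinv (j + 1) q hq x hx
      have hperm : ∀ l l' : List L, l.Perm l' → (∀ x ∈ l, x ∈ H 0) → ∀ v ∈ W j,
          fold v l - fold v l' ∈ W (j + 1) := by
        intro l l' hll
        induction hll with
        | nil => intro _ v _; rw [sub_self]; exact zero_mem _
        | @cons x l₁ l₂ _ ih' =>
          intro hl v hv
          exact ih' (fun y hy => hl y (List.mem_cons_of_mem _ hy)) _ (hinv j v hv x (hl x List.mem_cons_self))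
        | swap x y l₁ =>
          intro hl v hv
          show fold ⁅⁅v, y⁆, x⁆ l₁ - fold ⁅⁅v, x⁆, y⁆ l₁ ∈ W (j + 1)
          rw [lie_lie_eq v y x, fold_add, add_sub_cancel_right]
          refine fold_mem l₁ (mem_act hv ?_) fun z hz => hQ z (hl z (List.mem_cons_of_mem _ (List.mem_cons_of_mem _ hz)))
          exact hcomm 0 y (hl y List.mem_cons_self) x (hl x (List.mem_cons_of_mem _ List.mem_cons_self))
        | @trans l₁ l₂ l₃ h12 _ ih1 ih2 =>
          intro hl v hv
          have := add_mem (ih1 hl v hv) (ih2 (fun x hx => hl x (h12.symm.subset hx)) v hv)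
          rwa [sub_add_sub_cancel] at this
      rcases isEmpty_or_nonempty ι with hι | hι
      · cases l with
        | nil => simp at hl
        | cons x l => exact isEmptyElim (hlg x List.mem_cons_self).choose
      let lab : L → ι := fun x => if h : ∃ b, x ∈ H 0 ∧ x ∈ Fam b then h.choose else Classical.arbitrary ι
      have hlab : ∀ x ∈ l, x ∈ H 0 ∧ x ∈ Fam (lab x) := fun x hx => by
        obtain ⟨b, hb⟩ := hlg x hx
        have h : ∃ b, x ∈ H 0 ∧ x ∈ Fam b := ⟨b, hb⟩
        simp only [lab, dif_pos h]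
        exact h.choose_spec
      obtain ⟨b, hb⟩ : ∃ b, c ≤ (l.filter fun x => decide (lab x = b)).length := by
        by_contra hcon
        push Not at hcon
        have h1 : ∑ b : ι, (l.filter fun x => decide (lab x = b)).length = l.length := by
          clear hl hlg hlab hcon hperm
          induction l with
          | nil => simp
          | cons x l ihl =>
            have : ∀ b : ι, ((x :: l).filter fun y => decide (lab y = b)).length =
                (if lab x = b then 1 else 0) + (l.filter fun y => decide (lab y = b)).length := fun b => by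
              by_cases hb : lab x = b <;> simp [hb, add_comm]
            simp only [this, Finset.sum_add_distrib, ihl, Finset.sum_ite_eq, Finset.mem_univ, if_true, List.length_cons]
            ring
        have h2 := Finset.sum_le_card_nsmul Finset.univ _ c (fun b _ => (hcon b).le)
        rw [h1, hl, Finset.card_univ, ← hN, smul_eq_mul] at h2
        omega
      set l1 := l.filter fun x => decide (lab x = b) with hl1
      set l2 := l.filter fun x => !decide (lab x = b)
      have hsub : ∀ x ∈ l, x ∈ H 0 := fun x hx => (hlab x hx).1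
      have hdiff := hperm l (l1 ++ l2) (List.filter_append_perm _ l).symm hsub v hv
      have hzero : fold v (l1 ++ l2) = 0 := by
        have hm : fold v (l1.take c) ∈ actN (Fam b) (l1.take c).length ⊤ :=
          fold_mem_actN _ (AddSubgroup.mem_top v) fun x hx => by
            have hx1 := List.mem_of_mem_take hx
            rw [hl1, List.mem_filter, decide_eq_true_eq] at hx1
            exact hx1.2 ▸ (hlab x hx1.1).2
        rw [List.length_take, min_eq_left hb, show actN (Fam b) c ⊤ = ⊥ from hFam b, AddSubgroup.mem_bot] at hm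
        rw [← List.take_append_drop c l1, List.append_assoc, fold, List.foldl_append,
          show List.foldl (fun v x => ⁅v, x⁆) v (l1.take c) = fold v (l1.take c) from rfl, hm]
        exact fold_zero _
      rwa [hzero, sub_zero] at hdiff
    have hall : ∀ j, actN (H 0) ((N * c + 1) * j) ⊤ ≤ W j := by
      intro j
      induction j with
      | zero => exact le_top
      | succ j ihj =>
        rw [Nat.mul_succ, actN_add]
        exact (actN_mono le_rfl _ ihj).trans (hblock j)
    refine le_bot_iff.mp ?_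
    rw [nilBound, pow_succ']
    exact (hall _).trans hW'.le

variable {p : ℕ}

/-- **Solvability from a nilpotently acting fixed subring.** -/
theorem derL_bot [hp : Fact p.Prime] (Φ : L →+ L) (hΦ : ∀ x y, Φ ⁅x, y⁆ = ⁅Φ x, Φ y⁆)
    (hper : ∀ x, Φ^[p] x = x) (htf : ∀ x : L, p • x = 0 → x = 0) {F : AddSubgroup L}
    (hF : ∀ x, Φ x = x → x ∈ F) {m : ℕ} (hnil : Nil F m) : derL L (m + kf m (p - 1)) = ⊥ := by
  letI : Bracket (R p ⊗[ℤ] L) (R p ⊗[ℤ] L) := (lieRingSelfModule (L := R p ⊗[ℤ] L)).toBracket
  have hS : Closed (eig (p := p) Φ) := by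
    intro a b x hx y hy
    rw [mem_eig] at hx hy ⊢
    rw [ext'_lie Φ hΦ, hx, hy, lie_smul, ← lie_skew (δ a • x) y, lie_smul, ← smul_neg, lie_skew x y,
      smul_smul, δ_mul, add_comm b a]
  let span : AddSubgroup L → AddSubgroup (E p L) := fun V =>
    AddSubgroup.closure {z | ∃ r : R p, ∃ v ∈ V, r ⊗ₜ[ℤ] v = z}
  have hzero : ∀ x ∈ eig (p := p) Φ 0, x ∈ span F := by
    intro x hx
    rw [mem_eig, δ_zero, one_smul] at hx
    rw [← sum_coord x]
    exact sum_mem fun k _ => AddSubgroup.subset_closure ⟨_, _, hF _ (by rw [← coord_ext', hx]), rfl⟩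
  have hdep : ∀ i s, dep (eig (p := p) Φ) i s ≤ span (actN F i ⊤) := by
    intro i
    induction i with
    | zero =>
      intro s x _
      rw [← sum_coord x]
      exact sum_mem fun k _ => AddSubgroup.subset_closure ⟨_, _, AddSubgroup.mem_top _, rfl⟩
    | succ i ih =>
      intro s
      refine (AddSubgroup.closure_le _).mpr ?_
      rintro _ ⟨x, hx, y, hy, rfl⟩
      refine lie_closure ?_ (ih s hx) (hzero y hy)
      rintro _ ⟨r, v, hv, rfl⟩ _ ⟨r', v', hv', rfl⟩
      exact AddSubgroup.subset_closure ⟨r * r', _, mem_act hv hv', (tmul_lie r r' v v').symm⟩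
  have hbot : dep (eig (p := p) Φ) m = ⊥ := by
    refine le_bot_iff.mp fun s => (hdep m s).trans ((AddSubgroup.closure_le _).mpr ?_)
    rintro _ ⟨r, v, hv, rfl⟩
    rw [hnil, AddSubgroup.mem_bot] at hv
    simp [hv]
  have hsol := solvable_of_depth hS hbot
  have hmem : ∀ x : L, ee p ⊗ₜ[ℤ] x ∈ ⨆ s : ZMod p, eig (p := p) Φ s := by
    intro x
    set s : L := ∑ j : ZMod p, Φ^[j.val] x
    have hs : Φ s = s := by
      rw [map_sum]
      refine Fintype.sum_equiv (Equiv.addRight 1) _ _ fun j => ?_
      rw [← Function.iterate_succ_apply' Φ, ← (show Function.IsPeriodicPt Φ p x from hper x).iterate_mod_apply,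
        Equiv.coe_addRight]
      simp only [ZMod.val_add, ZMod.val_one, Nat.succ_eq_add_one]
    have hsum : ee p ⊗ₜ[ℤ] x = (∑ i : ZMod p, comp' Φ i x) - (∑ i : ZMod p, δ i) ⊗ₜ[ℤ] s := by
      simp only [comp']
      rw [Finset.sum_comm]
      simp only [← TensorProduct.sum_tmul]
      rw [← Finset.add_sum_erase _ _ (Finset.mem_univ (0 : ZMod p))]
      have h1 : ∀ j ∈ Finset.univ.erase (0 : ZMod p), (∑ i : ZMod p, δ (-(i * j))) ⊗ₜ[ℤ] Φ^[j.val] x =
          (∑ i : ZMod p, δ i) ⊗ₜ[ℤ] Φ^[j.val] x := fun j hj => by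
        congr 1
        exact Fintype.sum_equiv ((Equiv.mulRight₀ j (Finset.ne_of_mem_erase hj)).trans (Equiv.neg _)) _ _ fun _ => rfl
      rw [Finset.sum_congr rfl h1, ← TensorProduct.tmul_sum, Finset.sum_erase_eq_sub (Finset.mem_univ _)]
      simp only [mul_zero, neg_zero, ZMod.val_zero, Function.iterate_zero_apply, Finset.sum_const, Finset.card_univ,
        ZMod.card, TensorProduct.tmul_sub]
      rw [ee, TensorProduct.sub_tmul, nsmul_eq_mul, δ_zero, mul_one]
      abel
    rw [hsum]
    refine sub_mem (sum_mem fun i _ => AddSubgroup.mem_iSup_of_mem i (comp'_mem Φ hper i x))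
      (AddSubgroup.mem_iSup_of_mem 0 ?_)
    rw [mem_eig, ext'_tmul, hs, δ_zero, one_smul]
  have hder : ∀ k, ∀ x ∈ derL L k, p ^ (2 ^ k - 1) • (ee p ⊗ₜ[ℤ] x) ∈
      ⨆ s : ZMod p, LieFpf.der^[k] (eig (p := p) Φ) s := by
    intro k
    induction k with
    | zero => intro x _; simpa using hmem x
    | succ k ih =>
      intro z hz
      induction hz using AddSubgroup.closure_induction with
      | mem w hw =>
        obtain ⟨x, hx, y, hy, rfl⟩ := hw
        have h : p ^ (2 ^ (k + 1) - 1) • (ee p ⊗ₜ[ℤ] ⁅x, y⁆) =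
            ⁅p ^ (2 ^ k - 1) • (ee p ⊗ₜ[ℤ] x), p ^ (2 ^ k - 1) • (ee p ⊗ₜ[ℤ] y)⁆ := by
          rw [nsmul_lie, lie_nsmul, tmul_lie, ee_mul, ← nsmul_eq_mul, ← TensorProduct.smul_tmul', smul_smul,
            smul_smul, ← pow_add, ← pow_succ]
          congr 2
          have := Nat.one_le_two_pow (n := k)
          rw [pow_succ]
          omega
        rw [h]
        have h2 := fun u v => iSup_lie (u := u) (v := v) (T := fun s => LieFpf.der^[k + 1] (eig (p := p) Φ) s)
          (F := LieFpf.der^[k] (eig (p := p) Φ)) (H := LieFpf.der^[k] (eig (p := p) Φ))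
          (by intro a b x hx y hy; rw [Function.iterate_succ_apply']; exact mem_br hx hy)
        exact h2 _ _ (ih x hx) (ih y hy)
      | zero => simp
      | add u v _ _ hu hv => rw [TensorProduct.tmul_add, smul_add]; exact add_mem hu hv
      | neg u _ hu => rw [TensorProduct.tmul_neg, smul_neg]; exact neg_mem hu
  refine le_bot_iff.mp fun x hx => ?_
  have h1 := hder _ x hx
  rw [hsol] at h1
  simp only [Pi.bot_apply, iSup_bot, AddSubgroup.mem_bot] at h1
  have h2 := congrArg (coord (L := L) (1 : ZMod p)) h1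
  rw [map_nsmul, coord_tmul, ee_coeff, map_zero, neg_one_zsmul, smul_neg, neg_eq_zero] at h2
  rw [AddSubgroup.mem_bot]
  generalize 2 ^ (m + kf m (p - 1)) - 1 = t at h2
  induction t with
  | zero => simpa using h2
  | succ t iht => exact iht (htf _ (by rwa [pow_succ', mul_nsmul'] at h2))

end CfsgLib.CentClass
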