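import Cfsg.Agent.Lib.CentClass.Class
import Cfsg.Agent.Lib.CentClass.Fitting
import Cfsg.Agent.Lib.NilpotentCommute
import Cfsg.Agent.Lib.SolvSF.Apply
import Cfsg.Prelude.Def_Transfer

/-!
The class of a functorial subgroup is bounded by that of its values at centralisers.
-/

set_option autoImplicit false

namespace CfsgLib.CentClass

open Subgroup
open scoped commutatorElement

universe u
variable {Γ : Type u} [Group Γ] [Finite Γ] {p : ℕ} {A X : Subgroup Γ}

theorem map_DS {K : Type*} [Group K] (f : Γ →* K) : ∀ (d : ℕ) (H : Subgroup Γ), (DS d H).map f = DS d (H.map f)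
  | 0, _ => rfl
  | d + 1, H => by
    show (⁅DS d H, DS d H⁆).map f = ⁅DS d (H.map f), DS d (H.map f)⁆
    rw [Subgroup.map_commutator, map_DS f d H]

theorem DS_le_lcs_of {F : Subgroup Γ → Subgroup Γ} {d : ℕ} (hd : ∀ H, DS d H ≤ F H) (H : Subgroup Γ) :
    ∀ i, DS (d + i) H ≤ (F H).lowerCentralSeries i
  | 0 => by rw [Nat.add_zero, Subgroup.lowerCentralSeries_zero]; exact hd H
  | i + 1 => by
    rw [Subgroup.lowerCentralSeries_succ]
    exact Subgroup.commutator_mono (DS_le_lcs_of hd H i)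
      ((DS_le_lcs_of hd H i).trans (Subgroup.lowerCentralSeries_le_self _ i))

theorem DS_le_lcs : ∀ (j : ℕ) (H : Subgroup Γ), DS j H ≤ H.lowerCentralSeries j
  | 0, H => by rw [Subgroup.lowerCentralSeries_zero]; exact le_rfl
  | j + 1, H => by
    rw [Subgroup.lowerCentralSeries_succ]
    exact Subgroup.commutator_mono (DS_le_lcs j H) ((fn_DS j).le H)

omit [Finite Γ] in
theorem derivedSeries_map_subtype (H : Subgroup Γ) : ∀ i, (derivedSeries H i).map H.subtype = DS i H
  | 0 => by rw [derivedSeries_zero, ← MonoidHom.range_eq_map, H.range_subtype]; rfl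
  | i + 1 => by
    rw [derivedSeries_succ, Subgroup.map_commutator, derivedSeries_map_subtype H i]
    rfl

theorem isSolvable_of_DS {H : Subgroup Γ} {s : ℕ} (hs : DS s H = ⊥) : Group.IsSolvable H := by
  refine (isSolvable_def H).mpr ⟨s, ?_⟩
  rw [← Subgroup.map_eq_bot_iff_of_injective _ H.subtype_injective, derivedSeries_map_subtype, hs]

/-- The length of the commutators in `PairNil`. -/
def pairLen (p k c : ℕ) : ℕ := p ^ k * c + 1

theorem cfold_mem_lcs {S : Subgroup Γ} : ∀ (l : List Γ) {i : ℕ} {x : Γ}, x ∈ S.lowerCentralSeries i →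
    (∀ z ∈ l, z ∈ S) → cfold x l ∈ S.lowerCentralSeries (i + l.length)
  | [], _, _, hx, _ => hx
  | z :: l, i, x, hx, h => by
    have h1 : ⁅x, z⁆ ∈ S.lowerCentralSeries (i + 1) := by
      rw [Subgroup.lowerCentralSeries_succ]
      exact Subgroup.commutator_mem_commutator hx (h z List.mem_cons_self)
    have := cfold_mem_lcs l h1 fun y hy => h y (List.mem_cons_of_mem _ hy)
    rw [List.length_cons, show i + (l.length + 1) = i + 1 + l.length by omega]
    exact this

variable (h : Act p A X) {F : Subgroup Γ → Subgroup Γ} (hF : Fn F) {f : ℕ} (hgen : Gen p A X F f) {k c : ℕ}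
  (hk : Nat.card A = p ^ k) (hfk : f + 1 < k)
  (hcl : ∀ a ∈ A, a ≠ 1 → (F (X ⊓ C (zpowers a))).lowerCentralSeries c = ⊥)
include h hF hgen hk hfk hcl

/-- The fixed points of two subgroups of index at most `p` lie in a nilpotent normal subgroup of bounded
class of the centraliser of their intersection. -/
theorem exists_fitting (B B' : Subgroup Γ) (hB : Cor p A 1 B) (hB' : Cor p A 1 B') :
    ∃ S : Subgroup Γ, S ≤ X ⊓ C (B ⊓ B') ∧ X ⊓ C (B ⊓ B') ≤ normalizer (S : Set Γ) ∧
      S.lowerCentralSeries (p ^ k * c) = ⊥ ∧ F X ⊓ C B ≤ S ∧ F X ⊓ C B' ≤ S := by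
  classical
  haveI : Fintype {a : Γ // a ∈ B ⊓ B' ∧ a ≠ 1} := Fintype.ofFinite _
  set Y := X ⊓ C (B ⊓ B')
  set G' : {a : Γ // a ∈ B ⊓ B' ∧ a ≠ 1} → Subgroup Γ := fun a => F (X ⊓ C (zpowers a.1)) ⊓ Y
  have hz : ∀ a : {a : Γ // a ∈ B ⊓ B' ∧ a ≠ 1}, Y ≤ X ⊓ C (zpowers a.1) := fun a =>
    inf_le_inf_left X (C_anti (zpowers_le.mpr a.2.1))
  have hn : ∀ a, Y ≤ normalizer ((G' a : Subgroup Γ) : Set Γ) := fun a g hg =>
    normalizer_inf (hF.conj _ (Subgroup.le_normalizer (hz a hg))) (Subgroup.le_normalizer hg)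
  have hc : ∀ a, (G' a).lowerCentralSeries c = ⊥ := fun a => le_bot_iff.mp
    (le_trans (Subgroup.lowerCentralSeries_mono c (inf_le_left : G' a ≤ _))
      (hcl a.1 (hB.1 (Subgroup.mem_inf.mp a.2.1).1) a.2.2).le)
  refine ⟨⨆ a, G' a, iSup_le fun a => inf_le_right, fun g hg => normalizer_iSup_le _ fun a => hn a hg, ?_, ?_, ?_⟩
  · have h1 := lcs_iSup_eq_bot_of_le G' Y (fun a => inf_le_right) hn hc
    refine le_bot_iff.mp ((Subgroup.lowerCentralSeries_antitone _ (Nat.mul_le_mul_right c ?_)).trans h1.le)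
    rw [← Nat.card_eq_fintype_card, ← hk]
    exact Nat.card_le_card_of_injective (fun a => (⟨a.1, hB.1 (Subgroup.mem_inf.mp a.2.1).1⟩ : A))
      fun _ _ e => Subtype.ext (congrArg Subtype.val e :)
  all_goals
    first
      | refine (hgen.hyper B hB).trans (iSup_le fun E x hx => ?_)
        obtain ⟨hx1, hx2⟩ := Subgroup.mem_inf.mp hx
        obtain ⟨a, ha, ha1⟩ := (Subgroup.bot_or_exists_ne_one (E.1 ⊓ B')).resolve_left
          ((E.2.1.inf hB').ne_bot h.prime hk hfk)
        have haD : a ∈ B ⊓ B' := ⟨E.2.2 (Subgroup.mem_inf.mp ha).1, (Subgroup.mem_inf.mp ha).2⟩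
        refine le_iSup G' ⟨a, haD, ha1⟩ (Subgroup.mem_inf.mpr
          ⟨hF.mono (inf_le_inf_left X (C_anti (zpowers_le.mpr (Subgroup.mem_inf.mp ha).1))) hx1,
            Subgroup.mem_inf.mpr ⟨(Subgroup.mem_inf.mp (hF.le _ hx1)).1, C_anti inf_le_left hx2⟩⟩)
      | refine (hgen.hyper B' hB').trans (iSup_le fun E x hx => ?_)
        obtain ⟨hx1, hx2⟩ := Subgroup.mem_inf.mp hx
        obtain ⟨a, ha, ha1⟩ := (Subgroup.bot_or_exists_ne_one (E.1 ⊓ B)).resolve_left
          ((E.2.1.inf hB).ne_bot h.prime hk hfk)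
        have haD : a ∈ B ⊓ B' := ⟨(Subgroup.mem_inf.mp ha).2, E.2.2 (Subgroup.mem_inf.mp ha).1⟩
        refine le_iSup G' ⟨a, haD, ha1⟩ (Subgroup.mem_inf.mpr
          ⟨hF.mono (inf_le_inf_left X (C_anti (zpowers_le.mpr (Subgroup.mem_inf.mp ha).1))) hx1,
            Subgroup.mem_inf.mpr ⟨(Subgroup.mem_inf.mp (hF.le _ hx1)).1, C_anti inf_le_right hx2⟩⟩)

theorem pairNil : PairNil p A (F X) (pairLen p k c) := by
  intro B B' hB hB' x hx l hl hlB
  obtain ⟨S, -, -, hS, h1, h2⟩ := exists_fitting h hF hgen hk hfk hcl B B' hB hB'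
  have hxS : x ∈ S.lowerCentralSeries 0 := by rw [Subgroup.lowerCentralSeries_zero]; exact h2 hx
  have := S.lowerCentralSeries_antitone (show p ^ k * c ≤ 0 + l.length by rw [hl, pairLen]; omega)
    (cfold_mem_lcs l hxS fun z hz => h1 (hlB z hz))
  rwa [hS, Subgroup.mem_bot] at this

theorem isNilpotent [Group.IsSolvable Γ] : Group.IsNilpotent (F X) := by
  classical
  haveI := h.normal
  have hNn : (F X).Normal := by
    rw [← Subgroup.normalizer_eq_top_iff, eq_top_iff, ← Subgroup.normalizer_eq_top (H := X)]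
    exact hF.conj X
  set N := F X
  have hAN : A ≤ normalizer (N : Set Γ) := normal_le_normalizer hNn
  have hcop := h.card_coprime (hF.le X) (E := A) le_rfl
  have hsolA := h.solvable_le (E := A) le_rfl
  have hsyl : ∀ q : ℕ, q.Prime → ∃ P : Sylow q N, A ≤ normalizer ((P : Subgroup N).map N.subtype : Set Γ) :=
    fun q hq => by
      haveI := Fact.mk hq
      exact CfsgLib.coprime_exists_invariant_sylow hAN hcop (Or.inl hsolA) q
  choose P hP using hsyl
  have hcomm : ∀ q r (hq : q.Prime) (hr : r.Prime), q ≠ r → ∀ x ∈ (P q hq : Subgroup N), ∀ y ∈ (P r hr : Subgroup N),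
      Commute x y := by
    intro q r hq hr hne x hx y hy
    haveI := Fact.mk hq
    haveI := Fact.mk hr
    set Pq := (P q hq : Subgroup N).map N.subtype
    set Pr := (P r hr : Subgroup N).map N.subtype
    have hPN : ∀ {s : ℕ} (hs : s.Prime), (P s hs : Subgroup N).map N.subtype ≤ N := fun hs => Subgroup.map_subtype_le _
    have key : ∀ B B', Cor p A 1 B → Cor p A 1 B' → ∀ u ∈ Pq ⊓ C B, ∀ v ∈ Pr ⊓ C B', Commute u v := by
      intro B B' hB hB' u hu v hv
      obtain ⟨S, -, -, hS, h1, h2⟩ := exists_fitting h hF hgen hk hfk hcl B B' hB hB'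
      haveI : Group.IsNilpotent S := (Subgroup.isNilpotent_iff_lowerCentralSeries S).mpr ⟨_, hS⟩
      obtain ⟨hu1, hu2⟩ := Subgroup.mem_inf.mp hu
      obtain ⟨hv1, hv2⟩ := Subgroup.mem_inf.mp hv
      have huS := h1 (Subgroup.mem_inf.mpr ⟨hPN hq hu1, hu2⟩)
      have hvS := h2 (Subgroup.mem_inf.mpr ⟨hPN hr hv1, hv2⟩)
      obtain ⟨i, hi⟩ := IsPGroup.iff_orderOf.mp ((P q hq).2.map N.subtype) ⟨u, hu1⟩
      obtain ⟨j, hj⟩ := IsPGroup.iff_orderOf.mp ((P r hr).2.map N.subtype) ⟨v, hv1⟩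
      rw [Subgroup.orderOf_mk] at hi hj
      have := CfsgLib.commute_of_nilpotent (⟨u, huS⟩ : S) ⟨v, hvS⟩ (by
        rw [Subgroup.orderOf_mk, Subgroup.orderOf_mk, hi, hj]
        exact Nat.Coprime.pow _ _ ((Nat.coprime_primes hq hr).mpr hne))
      exact congrArg Subtype.val this.eq
    have hxP : (x : Γ) ∈ Pq := ⟨x, hx, rfl⟩
    have hyP : (y : Γ) ∈ Pr := ⟨y, hy, rfl⟩
    have h1 := h.gen_hyper ((hPN hq).trans (hF.le X)) (hP q hq) hxP
    have h2 : ∀ B, Cor p A 1 B → ∀ u ∈ Pq ⊓ C B, Commute u (y : Γ) := by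
      intro B hB u hu
      have h3 := h.gen_hyper ((hPN hr).trans (hF.le X)) (hP r hr) hyP
      have hle : (⨆ B' : {B' : Subgroup Γ // Cor p A 1 B'}, Pr ⊓ C B'.1) ≤ centralizer {u} := iSup_le fun B' v hv =>
        mem_centralizer_singleton_iff.mpr (key B B'.1 hB B'.2 u hu v hv).eq.symm
      exact (mem_centralizer_singleton_iff.mp (hle h3)).symm
    have hle : (⨆ B : {B : Subgroup Γ // Cor p A 1 B}, Pq ⊓ C B.1) ≤ centralizer {(y : Γ)} := iSup_le fun B u hu =>
      mem_centralizer_singleton_iff.mpr (h2 B.1 B.2 u hu).eq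
    exact Subtype.ext (mem_centralizer_singleton_iff.mp (hle h1))
  have hnormal : ∀ (q : ℕ) (hq : q.Prime), ((P q hq : Subgroup N)).Normal := by
    intro q hq
    haveI := Fact.mk hq
    rw [← Subgroup.normalizer_eq_top_iff, ← Subgroup.index_eq_one]
    refine Nat.eq_one_iff_not_exists_prime_dvd.mpr fun r hr hrd => ?_
    haveI := Fact.mk hr
    have hle : (P r hr : Subgroup N) ≤ normalizer ((P q hq : Subgroup N) : Set N) := by
      rcases eq_or_ne q r with rfl | hne
      · exact Subgroup.le_normalizer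
      · intro y hy
        refine Subgroup.mem_normalizer_iff.mpr fun x => ⟨fun hx => ?_, fun hx => ?_⟩
        · rw [← (hcomm q r hq hr hne x hx y hy).eq, mul_inv_cancel_right]; exact hx
        · have e := hcomm q r hq hr hne _ hx y hy
          have e2 : y * x * y⁻¹ = x := by
            have := e.eq
            rw [inv_mul_cancel_right] at this
            have h3 : x = y * x * y⁻¹ := mul_left_cancel (a := y) this
            exact h3.symm
          rwa [e2] at hx
    exact (P r hr).not_dvd_index (hrd.trans (Subgroup.index_dvd_of_le hle))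
  refine (Group.isNilpotent_of_finite_tfae.out 0 3).mpr ?_
  intro q hqf Q
  haveI := hqf
  haveI := hnormal q hqf.out
  obtain ⟨g, hg⟩ := MulAction.exists_smul_eq N (P q hqf.out) Q
  rw [← hg, Sylow.coe_subgroup_smul, Subgroup.Normal.conj_smul_eq_self g]
  exact hnormal q hqf.out

omit hgen hfk in
theorem isSolvable_X {d : ℕ} (hd : ∀ H, DS d H ≤ F H) (hk3 : 3 ≤ k) : Group.IsSolvable X := by
  haveI := Fact.mk h.prime
  refine CfsgLib.FFLength.solvable_of_fixed CfsgLib.SolvSF.sigSolvable A X h.comm h.exp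
    (by rw [hk]; exact Nat.pow_le_pow_right h.prime.pos hk3) (normal_le_normalizer h.normal) h.cop fun a ha ha1 => ?_
  have h1 : DS (d + c) (X ⊓ C (zpowers a)) = ⊥ :=
    le_bot_iff.mp ((DS_le_lcs_of hd _ c).trans (hcl a ha ha1).le)
  have h2 : X ⊓ centralizer ({a} : Set Γ) = X ⊓ C (zpowers a) := by
    rw [C, zpowers_eq_closure, centralizer_closure]
  rw [h2]
  exact isSolvable_of_DS h1

/-- **The bound.** -/
theorem lcs_bot [Group.IsSolvable Γ] {d : ℕ} (hd : ∀ H, DS d H ≤ F H) :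
    (F X).lowerCentralSeries (clsBound p k (pairLen p k c) (d + c)) = ⊥ := by
  haveI := isNilpotent h hF hgen hk hfk hcl
  have hNn : (F X).Normal := by
    haveI := h.normal
    rw [← Subgroup.normalizer_eq_top_iff, eq_top_iff, ← Subgroup.normalizer_eq_top (H := X)]
    exact hF.conj X
  obtain ⟨a, ha, ha1⟩ := (Subgroup.bot_or_exists_ne_one A).resolve_left fun e => by
    rw [e, Subgroup.card_bot] at hk
    exact absurd hk.symm (Nat.one_lt_pow (by omega) h.prime.one_lt).ne'
  refine class_bound_of_pair h hNn (hF.le X) hk (pairNil h hF hgen hk hfk hcl) ha (le_bot_iff.mp ?_)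
  refine ((fn_DS (d + c)).mono (inf_le_inf_right _ (hF.le X))).trans ?_
  exact (DS_le_lcs_of hd _ c).trans (hcl a ha ha1).le

end CfsgLib.CentClass
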