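import Cfsg.Agent.Lib.CentClass.Act

/-!
The subgroups attached to a functorial subgroup and to the subgroups of small index of `A`.
-/

set_option autoImplicit false

namespace CfsgLib.CentClass

open Subgroup
open scoped commutatorElement

universe u
variable {Γ : Type u} [Group Γ] [Finite Γ]

/-- A functorial choice of a normal subgroup of every subgroup. -/
structure Fn (F : Subgroup Γ → Subgroup Γ) : Prop where
  le : ∀ H : Subgroup Γ, F H ≤ H
  mono : ∀ {H H' : Subgroup Γ}, H ≤ H' → F H ≤ F H'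
  conj : ∀ H : Subgroup Γ, normalizer (H : Set Γ) ≤ normalizer ((F H : Subgroup Γ) : Set Γ)

/-- The join of the values at the centralisers of the subgroups of `D` of corank at most `f`, cut down to
the centraliser of `D`. -/
def R (p : ℕ) (A X : Subgroup Γ) (F : Subgroup Γ → Subgroup Γ) (f : ℕ) (D : Subgroup Γ) : Subgroup Γ :=
  ⨆ E : {E : Subgroup Γ // Cor p A f E ∧ E ≤ D}, F (X ⊓ C E.1) ⊓ C D

variable {p : ℕ} {A X : Subgroup Γ} {F : Subgroup Γ → Subgroup Γ}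

theorem mem_R {f : ℕ} {D E : Subgroup Γ} (hE : Cor p A f E) (hED : E ≤ D) {x : Γ} (hx : x ∈ F (X ⊓ C E))
    (hxD : x ∈ C D) : x ∈ R p A X F f D :=
  le_iSup (fun E : {E : Subgroup Γ // Cor p A f E ∧ E ≤ D} => F (X ⊓ C E.1) ⊓ C D) ⟨E, hE, hED⟩
    (Subgroup.mem_inf.mpr ⟨hx, hxD⟩)

theorem R_le_C (f : ℕ) (D : Subgroup Γ) : R p A X F f D ≤ C D := iSup_le fun _ => inf_le_right

theorem R_le (hF : Fn F) (f : ℕ) (D : Subgroup Γ) : R p A X F f D ≤ X ⊓ C D :=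
  iSup_le fun E => le_inf (inf_le_left.trans ((hF.le _).trans inf_le_left)) inf_le_right

theorem R_mono {f g : ℕ} (hp : p.Prime) (hfg : f ≤ g) (D : Subgroup Γ) : R p A X F f D ≤ R p A X F g D :=
  iSup_le fun E => le_iSup_of_le
    (⟨E.1, E.2.1.mono hp hfg, E.2.2⟩ : {E : Subgroup Γ // Cor p A g E ∧ E ≤ D}) le_rfl

/-- The values at `A` lie in those at every subgroup of index `p`. -/
theorem R_top_le (hF : Fn F) {f : ℕ} (hf : 1 ≤ f) {B : Subgroup Γ} (hB : Cor p A 1 B) :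
    R p A X F (f - 1) A ≤ R p A X F f B := by
  refine iSup_le fun E x hx => ?_
  obtain ⟨h1, h2⟩ := Subgroup.mem_inf.mp hx
  refine mem_R (E := E.1 ⊓ B) ?_ inf_le_right (hF.mono (inf_le_inf_left X (C_anti inf_le_left)) h1)
    (C_anti hB.1 h2)
  have := E.2.1.inf hB
  rwa [Nat.sub_add_cancel hf] at this

theorem normalizer_iSup_le {ι : Sort*} (S : ι → Subgroup Γ) {g : Γ} (hg : ∀ i, g ∈ normalizer (S i : Set Γ)) :
    g ∈ normalizer ((⨆ i, S i : Subgroup Γ) : Set Γ) := by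
  rw [Subgroup.mem_normalizer_iff_map_conj_eq, Subgroup.map_iSup]
  exact iSup_congr fun i => Subgroup.mem_normalizer_iff_map_conj_eq.mp (hg i)

theorem normalizer_inf {H K : Subgroup Γ} {g : Γ} (h1 : g ∈ normalizer (H : Set Γ))
    (h2 : g ∈ normalizer (K : Set Γ)) : g ∈ normalizer ((H ⊓ K : Subgroup Γ) : Set Γ) :=
  Subgroup.mem_normalizer_iff.mpr fun y => by
    simp only [Subgroup.mem_inf]
    rw [← Subgroup.mem_normalizer_iff.mp h1 y, ← Subgroup.mem_normalizer_iff.mp h2 y]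

theorem XC_le_normalizer_R (hF : Fn F) (f : ℕ) (D : Subgroup Γ) :
    X ⊓ C D ≤ normalizer ((R p A X F f D : Subgroup Γ) : Set Γ) := fun g hg => by
  refine normalizer_iSup_le _ fun E => normalizer_inf (hF.conj _ (Subgroup.le_normalizer ?_))
    (Subgroup.le_normalizer (Subgroup.mem_inf.mp hg).2)
  exact Subgroup.mem_inf.mpr ⟨(Subgroup.mem_inf.mp hg).1, C_anti E.2.2 (Subgroup.mem_inf.mp hg).2⟩

namespace Act

variable (h : Act p A X)
include h

theorem A_le_normalizer_XC {E : Subgroup Γ} (hE : E ≤ A) : A ≤ normalizer ((X ⊓ C E : Subgroup Γ) : Set Γ) :=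
  fun a ha => normalizer_inf (by haveI := h.normal; rw [Subgroup.normalizer_eq_top]; exact Subgroup.mem_top a)
    (h.A_le_normalizer_C hE ha)

theorem A_le_normalizer_R (hF : Fn F) (f : ℕ) {D : Subgroup Γ} (hD : D ≤ A) :
    A ≤ normalizer ((R p A X F f D : Subgroup Γ) : Set Γ) := fun a ha =>
  normalizer_iSup_le _ fun E => normalizer_inf (hF.conj _ (h.A_le_normalizer_XC E.2.1.1 ha))
    (h.A_le_normalizer_C hD ha)

/-- The fixed points of a larger subgroup. -/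
theorem R_inf_le (hF : Fn F) {f : ℕ} {D B : Subgroup Γ} (hD : D ≤ A) (hB : B ≤ A) (hDB : D ≤ B) :
    R p A X F f D ⊓ C B ≤ R p A X F f B := by
  refine (h.fixed_iSup _ (fun E => inf_le_left.trans ((hF.le _).trans inf_le_left)) hB (fun E a ha => ?_)
    fun E E' => ?_).trans (iSup_le fun E x hx => ?_)
  · exact normalizer_inf (hF.conj _ (h.A_le_normalizer_XC E.2.1.1 (hB ha))) (h.A_le_normalizer_C hD (hB ha))
  · intro g hg
    obtain ⟨hg1, hg2⟩ := Subgroup.mem_inf.mp hg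
    refine normalizer_inf (hF.conj _ (Subgroup.le_normalizer ?_)) (Subgroup.le_normalizer hg2)
    exact Subgroup.mem_inf.mpr ⟨(Subgroup.mem_inf.mp (hF.le _ hg1)).1, C_anti E.2.2 hg2⟩
  · obtain ⟨hx1, hx2⟩ := Subgroup.mem_inf.mp hx
    exact mem_R E.2.1 (E.2.2.trans hDB) (Subgroup.mem_inf.mp hx1).1 hx2

end Act

/-- The fixed points are generated by the special subgroups. -/
structure Gen (p : ℕ) (A X : Subgroup Γ) (F : Subgroup Γ → Subgroup Γ) (f : ℕ) : Prop where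
  one_le : 1 ≤ f
  hyper : ∀ B, Cor p A 1 B → F X ⊓ C B ≤ R p A X F f B
  top : F X ⊓ C A ≤ R p A X F (f - 1) A

theorem comm_closure_le {Y : Subgroup Γ} {S T : Set Γ} (hS : ∀ s ∈ S, s ∈ normalizer (Y : Set Γ))
    (hT : ∀ t ∈ T, t ∈ normalizer (Y : Set Γ)) (hST : ∀ s ∈ S, ∀ t ∈ T, ⁅s, t⁆ ∈ Y) :
    ⁅Subgroup.closure S, Subgroup.closure T⁆ ≤ Y := by
  have hcS : Subgroup.closure S ≤ normalizer (Y : Set Γ) := (Subgroup.closure_le _).mpr hS
  have hcT : Subgroup.closure T ≤ normalizer (Y : Set Γ) := (Subgroup.closure_le _).mpr hT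
  have conjY : ∀ g ∈ normalizer (Y : Set Γ), ∀ y ∈ Y, g * y * g⁻¹ ∈ Y := fun g hg y hy =>
    (Subgroup.mem_normalizer_iff.mp hg y).mp hy
  refine Subgroup.commutator_le.mpr fun a ha b hb => ?_
  induction hb using Subgroup.closure_induction with
  | mem t ht =>
    induction ha using Subgroup.closure_induction with
    | mem s hs => exact hST s hs t ht
    | one => rw [commutatorElement_one_left]; exact one_mem _
    | mul x y hx hy h1 h2 =>
      rw [show ⁅x * y, t⁆ = x * ⁅y, t⁆ * x⁻¹ * ⁅x, t⁆ by simp only [commutatorElement_def]; group]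
      exact mul_mem (conjY x (hcS hx) _ h2) h1
    | inv x hx h1 =>
      rw [show ⁅x⁻¹, t⁆ = x⁻¹ * ⁅x, t⁆⁻¹ * x⁻¹⁻¹ by simp only [commutatorElement_def]; group]
      exact conjY _ (inv_mem (hcS hx)) _ (inv_mem h1)
  | one => rw [commutatorElement_one_right]; exact one_mem _
  | mul x y hx hy h1 h2 =>
    rw [show ⁅a, x * y⁆ = ⁅a, x⁆ * (x * ⁅a, y⁆ * x⁻¹) by simp only [commutatorElement_def]; group]
    exact mul_mem h1 (conjY x (hcT hx) _ h2)
  | inv x hx h1 =>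
    rw [show ⁅a, x⁻¹⁆ = x⁻¹ * ⁅a, x⁆⁻¹ * x⁻¹⁻¹ by simp only [commutatorElement_def]; group]
    exact conjY _ (inv_mem (hcT hx)) _ (inv_mem h1)

/-- Commutators of two special subgroups. -/
theorem comm_R_le {F1 F2 F3 : Subgroup Γ → Subgroup Γ} (hF1 : Fn F1) (hF2 : Fn F2) (hF3 : Fn F3)
    (h3 : ∀ H, ⁅F1 H, F2 H⁆ ≤ F3 H) {f1 f2 f3 : ℕ} {B B' : Subgroup Γ}
    (hcor : ∀ E, Cor p A f1 E → E ≤ B → ∀ E', Cor p A f2 E' → E' ≤ B' → Cor p A f3 (E ⊓ E')) :
    ⁅R p A X F1 f1 B, R p A X F2 f2 B'⁆ ≤ R p A X F3 f3 (B ⊓ B') := by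
  have hN1 : R p A X F1 f1 B ≤ normalizer ((R p A X F3 f3 (B ⊓ B') : Subgroup Γ) : Set Γ) :=
    (R_le hF1 _ _).trans ((inf_le_inf_left X (C_anti inf_le_left)).trans (XC_le_normalizer_R hF3 _ _))
  have hN2 : R p A X F2 f2 B' ≤ normalizer ((R p A X F3 f3 (B ⊓ B') : Subgroup Γ) : Set Γ) :=
    (R_le hF2 _ _).trans ((inf_le_inf_left X (C_anti inf_le_right)).trans (XC_le_normalizer_R hF3 _ _))
  unfold R at hN1 hN2 ⊢
  simp only [Subgroup.iSup_eq_closure] at hN1 hN2 ⊢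
  refine comm_closure_le (fun s hs => hN1 (Subgroup.subset_closure hs))
    (fun t ht => hN2 (Subgroup.subset_closure ht)) fun s hs t ht => ?_
  obtain ⟨E, hE⟩ := Set.mem_iUnion.mp hs
  obtain ⟨E', hE'⟩ := Set.mem_iUnion.mp ht
  obtain ⟨hs1, hs2⟩ := Subgroup.mem_inf.mp hE
  obtain ⟨ht1, ht2⟩ := Subgroup.mem_inf.mp hE'
  have hts : ⁅s, t⁆ ∈ C (B ⊓ B') := by
    have a1 := C_anti (inf_le_left : B ⊓ B' ≤ B) hs2
    have a2 := C_anti (inf_le_right : B ⊓ B' ≤ B') ht2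
    exact mul_mem (mul_mem (mul_mem a1 a2) (inv_mem a1)) (inv_mem a2)
  have h1 := h3 (X ⊓ C (E.1 ⊓ E'.1)) (Subgroup.commutator_mem_commutator
    (hF1.mono (inf_le_inf_left X (C_anti inf_le_left)) hs1) (hF2.mono (inf_le_inf_left X (C_anti inf_le_right)) ht1))
  exact Subgroup.subset_closure (Set.mem_iUnion.mpr
    ⟨⟨E.1 ⊓ E'.1, hcor _ E.2.1 E.2.2 _ E'.2.1 E'.2.2, inf_le_inf E.2.2 E'.2.2⟩, Subgroup.mem_inf.mpr ⟨h1, hts⟩⟩)

end CfsgLib.CentClass
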